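import Mathlib
import Cfsg.Agent.H31.Defect.BlockData
import Cfsg.Agent.H38.Linear

/-!
Degrees in the block of defect one of a perfect group with few Sylow `p`-subgroups.
-/

set_option autoImplicit false
set_option linter.unusedSectionVars false

namespace Cfsg.Agent.H31.FewSylow

open Cfsg.Agent.H31.Defect

/-- A divisor `u p + 1` of `e (n p + 1)` with `n` small. -/
theorem plus_cases {p n e t d f : ℕ} (he : 1 ≤ e) (het : e * t + 1 = p) (hn : 2 * n < p + 3)
    (hep : e < p) (hprod : d * f = e * (n * p + 1)) (hd : (d : ℤ) ≡ 1 [ZMOD p]) :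
    d = 1 ∨ d = n * p + 1 := by
  have hd0 : d ≠ 0 := by rintro rfl; rw [zero_mul] at hprod; simp [eq_comm] at hprod; omega
  have hp1 : 1 < p := by omega
  have hd' : d % p = 1 := by
    have := (Int.natCast_modEq_iff (a := d) (b := 1) (n := p)).1 (by simpa using hd)
    rwa [Nat.ModEq, Nat.mod_eq_of_lt hp1] at this
  have hf' : f % p = e := by
    have h1 : (d * f) % p = e := by
      rw [hprod, Nat.mul_add, mul_one, Nat.add_mod, ← mul_assoc, Nat.mul_mod_left, zero_add,
        Nat.mod_mod, Nat.mod_eq_of_lt hep]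
    rwa [Nat.mul_mod, hd', one_mul, Nat.mod_mod] at h1
  obtain ⟨u, hu⟩ : ∃ u, d = u * p + 1 := ⟨d / p, by
    conv_lhs => rw [← Nat.div_add_mod d p, hd', mul_comm]⟩
  obtain ⟨v, hv⟩ : ∃ v, f = v * p + e := ⟨f / p, by
    conv_lhs => rw [← Nat.div_add_mod f p, hf', mul_comm]⟩
  subst hu hv
  have heq : u * v * p + u * e + v = e * n := by
    refine Nat.eq_of_mul_eq_mul_left (show 0 < p by omega) ?_
    have : (u * p + 1) * (v * p + e) = p * (u * v * p + u * e + v) + e := by ring
    rw [this, show e * (n * p + 1) = p * (e * n) + e by ring] at hprod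
    omega
  rcases Nat.eq_zero_or_pos v with rfl | hv
  · right
    simp only [mul_zero, zero_mul, zero_add, add_zero] at heq
    have : u = n := Nat.eq_of_mul_eq_mul_left he (by rw [mul_comm e u]; exact heq)
    rw [this]
  rcases Nat.eq_zero_or_pos u with rfl | hu
  · left; simp
  exfalso
  subst het
  have hdvd : e ∣ v * (u + 1) := by
    have h1 : e ∣ u * v * (e * t) + u * e + e * n := ⟨u * v * t + u + n, by ring⟩
    have h2 : e ∣ u * v * (e * t + 1) + u * e + v := heq ▸ dvd_mul_right e n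
    obtain ⟨a, ha⟩ := h2
    refine Int.natCast_dvd_natCast.1 ⟨(a : ℤ) - u * v * t - u, ?_⟩
    have ha' : ((u * v * (e * t + 1) + u * e + v : ℕ) : ℤ) = ((e * a : ℕ) : ℤ) := by rw [ha]
    push_cast at ha' ⊢
    linear_combination ha'
  obtain ⟨h, hh⟩ := hdvd
  have hh1 : 1 ≤ h := Nat.pos_of_ne_zero fun e0 => by
    rw [e0, mul_zero] at hh
    exact (Nat.mul_pos hv (Nat.succ_pos u)).ne' hh
  have hn' : n = u * v * t + u + h := by
    refine Nat.eq_of_mul_eq_mul_left he ?_
    calc e * n = u * v * (e * t + 1) + u * e + v := heq.symm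
      _ = e * (u * v * t + u) + v * (u + 1) := by ring
      _ = e * (u * v * t + u + h) := by rw [hh]; ring
  have h5 : e * t ≤ 2 * (u * v * t) := by
    have h6 : e ≤ 2 * (u * v) := by
      calc e ≤ e * h := Nat.le_mul_of_pos_right e hh1
        _ = v * (u + 1) := hh.symm
        _ ≤ v * (2 * u) := Nat.mul_le_mul_left v (by omega)
        _ = _ := by ring
    calc e * t ≤ 2 * (u * v) * t := Nat.mul_le_mul_right t h6
      _ = _ := by ring
  omega

/-- A divisor `u p - 1` of `e (n p + 1)` with `n` small. -/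
theorem minus_cases {p n e t d f : ℕ} (he : 1 ≤ e) (het : e * t + 1 = p) (hn : 2 * n < p + 3)
    (hep : e < p) (hprod : d * f = e * (n * p + 1)) (hd : (d : ℤ) ≡ -1 [ZMOD p])
    (hbig : t = 1 → d ≠ e * (n * p + 1)) :
    d = p - 1 := by
  have hp1 : 1 < p := by omega
  obtain ⟨u, hu⟩ : ∃ u : ℕ, d + 1 = u * p := by
    have h := (Int.modEq_iff_dvd.1 hd.symm)
    rw [sub_neg_eq_add] at h
    obtain ⟨u, hu⟩ := (Int.natCast_dvd_natCast (m := p) (n := d + 1)).1 (by exact_mod_cast h)
    exact ⟨u, by rw [hu, mul_comm]⟩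
  obtain ⟨v, hv⟩ : ∃ v : ℕ, f + e = v * p := by
    have h : (p : ℤ) ∣ ((f + e : ℕ) : ℤ) := by
      obtain ⟨a, ha⟩ := Int.modEq_iff_dvd.1 hd.symm
      refine ⟨a * f - e * n, ?_⟩
      have hp' : ((d * f : ℕ) : ℤ) = ((e * (n * p + 1) : ℕ) : ℤ) := by rw [hprod]
      push_cast at hp' ⊢
      linear_combination (f : ℤ) * ha - hp'
    obtain ⟨v, hv⟩ := Int.natCast_dvd_natCast.1 h
    exact ⟨v, by rw [hv, mul_comm]⟩
  have hu1 : 1 ≤ u := Nat.pos_of_ne_zero fun e => by rw [e, zero_mul] at hu; omega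
  have hv1 : 1 ≤ v := Nat.pos_of_ne_zero fun e0 => by rw [e0, zero_mul] at hv; omega
  rcases Nat.lt_or_ge u 2 with hu2 | hu2
  · obtain rfl : u = 1 := by omega
    omega
  exfalso
  have hu' : (d : ℤ) = u * p - 1 := by
    have : ((d + 1 : ℕ) : ℤ) = ((u * p : ℕ) : ℤ) := by rw [hu]
    push_cast at this; linarith
  have hv' : (f : ℤ) = v * p - e := by
    have : ((f + e : ℕ) : ℤ) = ((v * p : ℕ) : ℤ) := by rw [hv]
    push_cast at this; linarith
  subst het
  have heq : (u : ℤ) * v * (e * t + 1) - u * e - v = e * n := by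
    have hp' : ((d * f : ℕ) : ℤ) = ((e * (n * (e * t + 1) + 1) : ℕ) : ℤ) := by rw [hprod]
    push_cast at hp'
    rw [hu', hv'] at hp'
    push_cast at hp'
    refine mul_left_cancel₀ (a := ((e : ℤ) * t + 1)) (by positivity) ?_
    linear_combination hp'
  obtain ⟨h, hh⟩ : (e : ℤ) ∣ (v : ℤ) * ((u : ℤ) - 1) :=
    ⟨n + u - u * v * t, by linear_combination heq⟩
  have he' : (0 : ℤ) < e := by exact_mod_cast he
  have hpos : (0 : ℤ) < v * ((u : ℤ) - 1) := mul_pos (by exact_mod_cast hv1) (by omega)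
  have hh1 : 1 ≤ h := by
    rw [hh] at hpos
    exact Int.lt_of_not_ge fun hle => absurd hpos (not_lt.2 (mul_nonpos_of_nonneg_of_nonpos he'.le (by omega)))
  have hn' : (n : ℤ) = u * v * t - u + h := by
    refine mul_left_cancel₀ he'.ne' ?_
    linear_combination (-1 : ℤ) * heq + hh
  rcases Nat.lt_or_ge (v * t) 2 with hvt | hvt
  · rcases Nat.eq_zero_or_pos t with rfl | ht
    · simp only [mul_zero, zero_add] at hep
      omega
    obtain rfl : v = 1 := by nlinarith
    obtain rfl : t = 1 := by omega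
    refine hbig rfl ?_
    have : f = 1 := by simp only [one_mul, mul_one] at hv; omega
    rw [this, mul_one] at hprod
    exact hprod
  · have h1 : (e : ℤ) * t ≤ (v : ℤ) * ((u : ℤ) - 1) * t := by
      refine mul_le_mul_of_nonneg_right ?_ (by positivity)
      rw [hh]
      exact le_mul_of_one_le_right he'.le hh1
    have h2 : (2 : ℤ) ≤ (v : ℤ) * t := by exact_mod_cast hvt
    have h3 : ((u : ℤ) + 1) * 2 ≤ ((u : ℤ) + 1) * ((v : ℤ) * t) :=
      mul_le_mul_of_nonneg_left h2 (by positivity)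
    have hn2 : (2 : ℤ) * n < (e : ℤ) * t + 1 + 3 := by exact_mod_cast hn
    nlinarith

variable {G : Type*} [Group G] [Fintype G] {p : ℕ} [hp : Fact p.Prime] {z : G} {V H : Subgroup G}

/-- Only the principal character is linear in a perfect group. -/
theorem eq_one_of_linear (hperf : commutator G = ⊤) {χ : Cfsg.IrrCharacter G}
    (h : Cfsg.charDegree χ.1 = 1) : χ = H26.oneIrr G := by
  obtain ⟨f, hf⟩ := H38.exists_hom_of_linear (H26.irr_isCharacter χ)
    (by rw [(irr_degree χ).1, h, Nat.cast_one])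
  have hk : f.ker = ⊤ := by
    rw [eq_top_iff, ← hperf]
    exact Abelianization.commutator_subset_ker f
  refine Subtype.ext (funext fun g => ?_)
  rw [hf, H26.oneIrr_val]
  have : g ∈ f.ker := hk ▸ Subgroup.mem_top g
  simp [MonoidHom.mem_ker.1 this]

theorem card_sylow_index (S : Parts p z V H) : Nat.card (Sylow p G) =
    (Subgroup.normalizer ((Subgroup.zpowers z : Subgroup G) : Set G)).index := by
  have h1 : IsPGroup p (Subgroup.zpowers z) := IsPGroup.of_card (n := 1) (by
    rw [Nat.card_zpowers, S.ord, pow_one])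
  obtain ⟨P, hP⟩ := h1.exists_le_sylow
  have : (Subgroup.zpowers z) = (P : Subgroup G) := by
    refine Subgroup.eq_of_le_of_card_ge hP ?_
    obtain ⟨k, hk⟩ := P.isPGroup'.exists_card_eq
    rw [Nat.card_zpowers, S.ord, hk]
    have hk1 : k ≤ 1 := by
      by_contra hlt
      exact S.sq ((pow_dvd_pow p (not_le.1 hlt)).trans (hk ▸ Subgroup.card_subgroup_dvd_card _))
    calc p ^ k ≤ p ^ 1 := Nat.pow_le_pow_right hp.out.pos hk1
      _ = p := pow_one p
  rw [this]
  exact P.card_eq_index_normalizer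

theorem card_normalizer (S : Parts p z V H) :
    Nat.card (Subgroup.normalizer ((Subgroup.zpowers z : Subgroup G) : Set G)) =
      p * Nat.card V * (H30.conjExps p z).card := by
  classical
  set N := Subgroup.normalizer ((Subgroup.zpowers z : Subgroup G) : Set G)
  let f : N → {a // a ∈ H30.conjExps p z} := fun g =>
    ⟨(S.exists_autExp g.2).choose, S.mem_conjExps.2 ⟨g.1, (S.exists_autExp g.2).choose_spec⟩⟩
  have hf : ∀ g : N, g.1 * z * g.1⁻¹ = z ^ (f g).1.val := fun g =>
    (S.exists_autExp g.2).choose_spec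
  have hfib : ∀ a, Nat.card {g : N // f g = a} = p * Nat.card V := by
    intro a
    rw [← S.card_fiber a.2]
    exact Nat.card_congr
      { toFun := fun g => ⟨g.1.1, by have h := hf g.1; rwa [g.2] at h⟩
        invFun := fun g => ⟨⟨g.1, mem_normalizer_of_conj_eq S.ord g.2⟩,
          Subtype.ext ((zpow_val_eq_iff S.ord).1 ((hf _).symm.trans g.2))⟩
        left_inv := fun g => rfl
        right_inv := fun g => rfl }
  rw [← Nat.card_congr (Equiv.sigmaFiberEquiv f), Nat.card_sigma,
    Finset.sum_congr rfl fun a _ => hfib a, Finset.sum_const, Finset.card_univ, smul_eq_mul,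
    Fintype.card_coe, mul_comm]

theorem card_group (S : Parts p z V H) {n : ℕ} (hn : Nat.card (Sylow p G) = n * p + 1) :
    Nat.card G = p * Nat.card V * ((H30.conjExps p z).card * (n * p + 1)) := by
  rw [← Subgroup.card_mul_index (Subgroup.normalizer ((Subgroup.zpowers z : Subgroup G) : Set G)),
    ← card_sylow_index S, hn, card_normalizer S]
  ring

/-- The two possibilities for the exceptional degree and the counts of the others. -/
structure Shape (B : BlockData p z V) (n : ℕ) : Prop where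
  two_le : 2 ≤ (H30.conjExps p z).card
  supp : ∀ χ, B.b χ - B.m χ 0 ≠ 0 → χ = H26.oneIrr G ∨
    (Cfsg.charDegree χ.1 = n * p + 1 ∧ B.b χ - B.m χ 0 = -1) ∨
    (Cfsg.charDegree χ.1 = p - 1 ∧ B.b χ - B.m χ 0 = 1)
  cases : (B.ε = 1 ∧ B.D = (H30.conjExps p z).card ∧
      ∃ a : ℕ, (H30.conjExps p z).card = a * (n + 1) + 1) ∨
    (B.ε = -1 ∧ B.t * B.D = n * p + 1 ∧ ∃ a k : ℕ, k * B.t = n + 1 ∧
      (H30.conjExps p z).card = a * (n + 1) + k + 1)

theorem shape (S : Parts p z V H) (B : BlockData p z V) (hperf : commutator G = ⊤) {n : ℕ}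
    (hn1 : 1 ≤ n) (hn : 2 * n < p + 3) (hcard : Nat.card (Sylow p G) = n * p + 1)
    (hbig : p * Nat.card V < B.t * ((H30.conjExps p z).card * (n * p + 1))) : Shape B n := by
  classical
  set e := (H30.conjExps p z).card with he
  set c : Cfsg.IrrCharacter G → ℤ := fun χ => B.b χ - B.m χ 0 with hc
  have he0 : 1 ≤ e := S.card_exp_pos
  have hp2 := hp.out.two_le
  have het : e * B.t + 1 = p := by have h := B.et; rw [← he] at h; omega
  have ht0 : 1 ≤ B.t := Nat.pos_of_ne_zero fun e0 => by rw [e0, mul_zero] at het; omega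
  have hep : e < p := by
    have : e * 1 ≤ e * B.t := Nat.mul_le_mul_left e ht0
    omega
  have hG := card_group S hcard
  have hprod : ∀ d, d * (p * Nat.card V) ∣ Nat.card G → ∃ f, d * f = e * (n * p + 1) := by
    intro d hd
    rw [hG, mul_comm d] at hd
    obtain ⟨f, hf⟩ := Nat.dvd_of_mul_dvd_mul_left
      (Nat.mul_pos hp.out.pos Nat.card_pos) hd
    exact ⟨f, hf.symm⟩
  -- the large degree is impossible
  have hlarge : ∀ (s : Finset (Cfsg.IrrCharacter G)) (d : ℕ), (∀ χ ∈ s, Cfsg.charDegree χ.1 = d) →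
      B.t ≤ s.card → d ≠ e * (n * p + 1) := by
    intro s d hs hts hd
    have hsq : ∑ χ ∈ s, (Cfsg.charDegree χ.1) ^ 2 ≤ Nat.card G := by
      have h := H26.sum_sq_degrees (G := G)
      simp only [(irr_degree _).1] at h
      have h' : ∑ χ : Cfsg.IrrCharacter G, Cfsg.charDegree χ.1 ^ 2 = Nat.card G := by exact_mod_cast h
      rw [← h']
      exact Finset.sum_le_sum_of_subset (Finset.subset_univ s)
    rw [Finset.sum_congr rfl fun χ hχ => by rw [hs χ hχ], Finset.sum_const, smul_eq_mul, hG, hd]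
      at hsq
    have h2 : s.card * (e * (n * p + 1)) ≤ p * Nat.card V := by
      refine Nat.le_of_mul_le_mul_right ?_ (Nat.mul_pos he0 (Nat.succ_pos (n * p)))
      rw [pow_two, ← mul_assoc] at hsq
      exact hsq
    have h3 : B.t * (e * (n * p + 1)) ≤ s.card * (e * (n * p + 1)) := Nat.mul_le_mul_right _ hts
    omega
  have hsupp : ∀ χ, c χ ≠ 0 → χ = H26.oneIrr G ∨
      (Cfsg.charDegree χ.1 = n * p + 1 ∧ c χ = -1) ∨ (Cfsg.charDegree χ.1 = p - 1 ∧ c χ = 1) := by
    intro χ hχ
    obtain ⟨f, hf⟩ := hprod _ (B.dvd χ hχ)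
    have habs := abs_le.1 (B.abs_le χ)
    have hcong := B.cong χ hχ
    rcases (show c χ = -1 ∨ c χ = 1 by simp only [hc] at hχ ⊢; omega) with h | h
    · rcases plus_cases he0 het hn hep hf (by
          rw [Int.modEq_iff_dvd]
          have e1 : (1 : ℤ) - Cfsg.charDegree χ.1 = -((Cfsg.charDegree χ.1 : ℤ) + c χ) := by
            rw [h]; ring
          rw [e1]; exact dvd_neg.2 hcong) with h1 | h1
      · exact Or.inl (eq_one_of_linear hperf h1)
      · exact Or.inr (Or.inl ⟨h1, h⟩)
    · refine Or.inr (Or.inr ⟨minus_cases he0 het hn hep hf (by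
          rw [Int.modEq_iff_dvd]
          have e1 : (-1 : ℤ) - Cfsg.charDegree χ.1 = -((Cfsg.charDegree χ.1 : ℤ) + c χ) := by
            rw [h]; ring
          rw [e1]; exact dvd_neg.2 hcong) (fun ht => hlarge {χ} _ (by simp) (by simp [ht])), h⟩)
  -- counts
  set A := Finset.univ.filter fun χ => χ ≠ H26.oneIrr G ∧ c χ = -1 with hA
  set Bs := Finset.univ.filter fun χ => χ ≠ H26.oneIrr G ∧ c χ = 1 with hBs
  have hc1 : c (H26.oneIrr G) = -1 := by simp [hc, B.b_one, B.m_one]
  have hsplit : ∀ g : Cfsg.IrrCharacter G → ℤ, (∀ χ, c χ = 0 → g χ = 0) →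
      ∑ χ, g χ = g (H26.oneIrr G) + (∑ χ ∈ A, g χ + ∑ χ ∈ Bs, g χ) := by
    intro g hg
    rw [← Finset.add_sum_erase _ _ (Finset.mem_univ (H26.oneIrr G)), ← Finset.sum_union
      (Finset.disjoint_filter.2 fun χ _ h h' => by rw [h.2] at h'; simp at h')]
    congr 1
    symm
    refine Finset.sum_subset (fun χ hχ => ?_) fun χ hχ hχ' => hg χ ?_
    · simp only [Finset.mem_union, Finset.mem_filter, Finset.mem_univ, true_and] at hχ
      exact Finset.mem_erase.2 ⟨hχ.elim (fun h => h.1) fun h => h.1, Finset.mem_univ _⟩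
    · simp only [Finset.mem_union, Finset.mem_filter, Finset.mem_univ, true_and,
        not_or, not_and] at hχ'
      have hne := Finset.ne_of_mem_erase hχ
      have := abs_le.1 (B.abs_le χ)
      have h1 := hχ'.1 hne
      have h2 := hχ'.2 hne
      simp only [hc] at h1 h2 ⊢
      omega
  have hcount : (1 : ℤ) + (A.card + Bs.card) = e := by
    have h := B.sq_sum
    rw [hsplit (fun χ => c χ ^ 2) (fun χ h => by rw [h]; rfl)] at h
    rw [hc1, Finset.sum_congr rfl fun χ hχ => by rw [(Finset.mem_filter.1 hχ).2.2],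
      Finset.sum_congr rfl (s₁ := Bs) fun χ hχ => by rw [(Finset.mem_filter.1 hχ).2.2]] at h
    simpa using h
  have hdegA : ∀ χ ∈ A, Cfsg.charDegree χ.1 = n * p + 1 := by
    intro χ hχ
    obtain ⟨h1, h2⟩ := (Finset.mem_filter.1 hχ).2
    rcases hsupp χ (by rw [h2]; decide) with h | h | h
    · exact absurd h h1
    · exact h.1
    · rw [h2] at h; exact absurd h.2 (by decide)
  have hdegB : ∀ χ ∈ Bs, Cfsg.charDegree χ.1 = p - 1 := by
    intro χ hχ
    obtain ⟨h1, h2⟩ := (Finset.mem_filter.1 hχ).2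
    rcases hsupp χ (by rw [h2]; decide) with h | h | h
    · exact absurd h h1
    · rw [h2] at h; exact absurd h.2 (by decide)
    · exact h.1
  have hdeg1 : Cfsg.charDegree (H26.oneIrr G).1 = 1 := H26.charDegree_eq (by simp [H26.oneIrr_val])
  have heqn : (-1 : ℤ) + (-(A.card : ℤ) * (n * p + 1) + Bs.card * ((p : ℤ) - 1)) +
      B.ε * B.D = 0 := by
    have h := B.deg_sum
    change ∑ χ, (Cfsg.charDegree χ.1 : ℤ) * c χ + B.ε * B.D = 0 at h
    rw [hsplit _ (fun χ h => by rw [h, mul_zero])] at h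
    rw [hdeg1, hc1, Finset.sum_congr rfl fun χ hχ => by
        rw [hdegA χ hχ, (Finset.mem_filter.1 hχ).2.2],
      Finset.sum_congr rfl (s₁ := Bs) fun χ hχ => by
        rw [hdegB χ hχ, (Finset.mem_filter.1 hχ).2.2],
      Finset.sum_const, Finset.sum_const, nsmul_eq_mul, nsmul_eq_mul] at h
    rw [Nat.cast_sub hp.out.one_le] at h
    push_cast at h
    linarith
  have he2 : 2 ≤ e := by
    by_contra hlt
    have he1 : e = 1 := by omega
    have hA0 : A.card = 0 := by omega
    have hB0 : Bs.card = 0 := by omega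
    rw [hA0, hB0] at heqn
    simp only [CharP.cast_eq_zero, neg_zero, zero_mul, add_zero] at heqn
    have hD1 : B.D = 1 := by rcases B.eps with h | h <;> rw [h] at heqn <;> omega
    obtain ⟨θ, hθ⟩ := Finset.card_pos.1 (show 0 < B.K.card by rw [B.cardK]; exact ht0)
    exact B.one_not (eq_one_of_linear hperf ((B.degK θ hθ).trans hD1) ▸ hθ)
  obtain ⟨f, hf⟩ := hprod _ B.dvdK
  refine ⟨he2, hsupp, ?_⟩
  have hpe : (p : ℤ) = (e : ℤ) * B.t + 1 := by exact_mod_cast het.symm
  have hp0 : (p : ℤ) ≠ 0 := by exact_mod_cast hp.out.ne_zero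
  have hnp : ¬ (p : ℤ) ∣ (e : ℤ) := fun hd => by
    have := Nat.le_of_dvd (by omega) (Int.natCast_dvd_natCast.1 hd); omega
  have hprodZ : (B.D : ℤ) * f = (e : ℤ) * (n * p + 1) := by exact_mod_cast hf
  obtain ⟨q, hq⟩ := B.congK
  rcases B.eps with hε | hε
  · left
    rw [hε, one_mul] at hq
    have hf1 : (f : ℤ) ≡ 1 [ZMOD p] := by
      rw [Int.modEq_iff_dvd]
      refine ((Nat.prime_iff_prime_int.1 hp.out).dvd_or_dvd ?_).resolve_left hnp
      exact ⟨q * f - e * n, by linear_combination (f : ℤ) * hq - hprodZ⟩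
    rcases plus_cases he0 het hn hep (d := f) (f := B.D) (by rw [mul_comm]; exact hf) hf1 with h | h
    · exfalso
      rw [h, mul_one] at hf
      exact hlarge B.K B.D B.degK B.cardK.ge hf
    · rw [h] at hf
      have hD : B.D = e := Nat.eq_of_mul_eq_mul_right (Nat.succ_pos _) hf
      refine ⟨hε, hD, A.card, ?_⟩
      rw [hε, one_mul, hD] at heqn
      have hz : (Bs.card : ℤ) - A.card * n = 0 :=
        (mul_eq_zero.1 (by linear_combination heqn + hcount :
          (p : ℤ) * ((Bs.card : ℤ) - A.card * n) = 0)).resolve_left hp0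
      have : (e : ℤ) = (A.card : ℤ) * ((n : ℤ) + 1) + 1 := by linear_combination hz - hcount
      exact_mod_cast this
  · right
    rw [hε] at hq
    have hf1 : (f : ℤ) ≡ -1 [ZMOD p] := by
      rw [Int.modEq_iff_dvd]
      refine ((Nat.prime_iff_prime_int.1 hp.out).dvd_or_dvd ?_).resolve_left hnp
      exact ⟨-(q * f) + e * n, by linear_combination -(f : ℤ) * hq + hprodZ⟩
    have hfe : f = p - 1 := by
      refine minus_cases he0 het hn hep (d := f) (f := B.D) (by rw [mul_comm]; exact hf) hf1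
        (fun ht hfbig => ?_)
      rw [hfbig] at hf
      have hD : B.D = 1 := Nat.eq_of_mul_eq_mul_right (Nat.mul_pos he0 (Nat.succ_pos _))
        (hf.trans (one_mul _).symm)
      obtain ⟨θ, hθ⟩ := Finset.card_pos.1 (show 0 < B.K.card by rw [B.cardK]; exact ht0)
      exact B.one_not (eq_one_of_linear hperf ((B.degK θ hθ).trans hD) ▸ hθ)
    rw [hfe, show p - 1 = e * B.t by omega] at hf
    have hD : B.t * B.D = n * p + 1 := Nat.eq_of_mul_eq_mul_left he0 (by rw [← hf]; ring)
    have hDz : (B.t : ℤ) * B.D = (n : ℤ) * p + 1 := by exact_mod_cast hD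
    rw [hε] at heqn
    have hz : (B.t : ℤ) * ((Bs.card : ℤ) - A.card * n) - ((n : ℤ) + 1) = 0 :=
      (mul_eq_zero.1 (by linear_combination (B.t : ℤ) * heqn + (B.t : ℤ) * hcount + hDz - hpe :
        (p : ℤ) * ((B.t : ℤ) * ((Bs.card : ℤ) - A.card * n) - ((n : ℤ) + 1)) = 0)).resolve_left hp0
    obtain ⟨k, hk⟩ : ∃ k : ℕ, (Bs.card : ℤ) - A.card * n = k := by
      refine ⟨((Bs.card : ℤ) - A.card * n).toNat, (Int.toNat_of_nonneg ?_).symm⟩
      by_contra hneg
      have : (B.t : ℤ) * ((Bs.card : ℤ) - A.card * n) ≤ 0 :=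
        mul_nonpos_of_nonneg_of_nonpos (by positivity) (by omega)
      omega
    refine ⟨hε, hD, A.card, k, ?_, ?_⟩
    · rw [hk] at hz
      have : (k : ℤ) * B.t = (n : ℤ) + 1 := by linear_combination hz
      exact_mod_cast this
    · have : (e : ℤ) = (A.card : ℤ) * ((n : ℤ) + 1) + k + 1 := by linear_combination hk - hcount
      exact_mod_cast this

end Cfsg.Agent.H31.FewSylow
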