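import Mathlib
import Cfsg.Agent.H31.Defect.BlockData

/-!
The normaliser of a self-centralising subgroup of prime order, with coordinates.
-/

set_option autoImplicit false
set_option linter.unusedSectionVars false

namespace Cfsg.Agent.H31.FewSylow

open Cfsg.Agent.H31.Defect

variable {G : Type*} [Group G] {p e : ℕ} [hp : Fact p.Prime] [NeZero e] {z u : G}

/-- A self-centralising element of order `p` with a complement generator of its normaliser. -/
structure Frame (p e : ℕ) (z u : G) : Prop where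
  ordz : orderOf z = p
  ordu : orderOf u = e
  cent : Subgroup.centralizer ({z} : Set G) = Subgroup.zpowers z
  two_le : 2 ≤ e
  ndvd : ¬ p ∣ e
  mem : u ∈ Subgroup.normalizer ((Subgroup.zpowers z : Subgroup G) : Set G)
  cardN : Nat.card (Subgroup.normalizer ((Subgroup.zpowers z : Subgroup G) : Set G)) = p * e

/-- A frame exists. -/
theorem exists_frame [Fintype G] {V H : Subgroup G} (S : Parts p z V H)
    (hC : Subgroup.centralizer ({z} : Set G) = Subgroup.zpowers z)
    (hN : Nat.card (Subgroup.normalizer ((Subgroup.zpowers z : Subgroup G) : Set G)) =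
      p * (H30.conjExps p z).card)
    (h2 : 2 ≤ (H30.conjExps p z).card) :
    ∃ u : G, Frame p (H30.conjExps p z).card z u := by
  classical
  set e := (H30.conjExps p z).card with he
  have hdis : ∀ g ∈ H, g ∈ Subgroup.zpowers z → g = 1 := by
    intro g hg hz
    have h1 : orderOf g ∣ Nat.card H := by
      simpa [Subgroup.orderOf_mk] using orderOf_dvd_natCard (⟨g, hg⟩ : H)
    have h2 : orderOf g ∣ p := by
      have h := orderOf_dvd_natCard (⟨g, hz⟩ : Subgroup.zpowers z)
      rwa [Nat.card_zpowers, S.ord, Subgroup.orderOf_mk] at h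
    rcases (Nat.dvd_prime hp.out).1 h2 with h | h
    · exact orderOf_eq_one_iff.1 h
    · exact absurd (h ▸ h1) S.ndvd
  let α : H → ZMod p := fun g => (S.exists_autExp (S.H_le g.2)).choose
  have hα : ∀ g : H, (g : G) * z * (g : G)⁻¹ = z ^ (α g).val := fun g =>
    (S.exists_autExp (S.H_le g.2)).choose_spec
  let f : H →* ZMod p :=
    { toFun := α
      map_one' := (zpow_val_eq_iff S.ord).1 (by
        rw [← hα 1, ZMod.val_one, pow_one]; simp)
      map_mul' := fun g h => (zpow_val_eq_iff S.ord).1 (by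
        rw [← hα (g * h), ← pow_val_mul S.ord, ← hα g, conj_pow, ← hα h, Subgroup.coe_mul]
        group) }
  have hf : Function.Injective f := by
    intro g h e1
    have e2 : (g : G) * z * (g : G)⁻¹ = (h : G) * z * (h : G)⁻¹ := by
      rw [hα g, hα h]; exact congrArg (fun a => z ^ ZMod.val a) e1
    have : (h : G)⁻¹ * g ∈ Subgroup.centralizer ({z} : Set G) := by
      rw [Subgroup.mem_centralizer_singleton_iff]
      calc (h : G)⁻¹ * g * z = (h : G)⁻¹ * ((g : G) * z * (g : G)⁻¹) * g := by group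
        _ = z * ((h : G)⁻¹ * g) := by rw [e2]; group
    rw [hC] at this
    exact Subtype.ext (inv_mul_eq_one.1 (hdis _ (H.mul_mem (H.inv_mem h.2) g.2) this)).symm
  have : IsCyclic H := isCyclic_of_injective_ringHom f hf
  obtain ⟨u, hu⟩ := IsCyclic.exists_ofOrder_eq_natCard (α := H)
  set N := Subgroup.normalizer ((Subgroup.zpowers z : Subgroup G) : Set G) with hNdef
  have hcard : Nat.card H = e := by
    refine Nat.eq_of_mul_eq_mul_left hp.out.pos ?_
    rw [← hN, ← show Nat.card (Subgroup.zpowers z) = p from by rw [Nat.card_zpowers, S.ord],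
      ← Nat.card_prod]
    refine Nat.card_congr (Equiv.ofBijective
      (fun x : Subgroup.zpowers z × H => (⟨x.1.1 * x.2.1,
        N.mul_mem (Subgroup.le_normalizer x.1.2) (S.H_le x.2.2)⟩ : N)) ⟨?_, ?_⟩)
    · rintro ⟨a, g⟩ ⟨b, h⟩ h1
      have h2 : (a : G) * g = b * h := congrArg Subtype.val h1
      have h3 : (b : G)⁻¹ * a = (h : G) * (g : G)⁻¹ := by
        rw [inv_mul_eq_iff_eq_mul, ← mul_assoc, ← h2, mul_inv_cancel_right]
      have h4 := hdis _ (H.mul_mem h.2 (H.inv_mem g.2))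
        (h3 ▸ (Subgroup.zpowers z).mul_mem ((Subgroup.zpowers z).inv_mem b.2) a.2)
      rw [h4, inv_mul_eq_one] at h3
      exact Prod.ext (Subtype.ext h3.symm) (Subtype.ext (mul_inv_eq_one.1 h4).symm)
    · rintro ⟨g, hg⟩
      have h1 : g ∈ ((H ⊔ Subgroup.zpowers z : Subgroup G) : Set G) := by
        rw [sup_comm]; exact S.N_le hg
      rw [Subgroup.coe_mul_of_left_le_normalizer_right H (Subgroup.zpowers z) S.H_le] at h1
      obtain ⟨h, hh, a, ha, rfl⟩ := Set.mem_mul.1 h1
      refine ⟨⟨⟨h * a * h⁻¹, (Subgroup.mem_normalizer_iff.1 (S.H_le hh) a).1 ha⟩, ⟨h, hh⟩⟩,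
        Subtype.ext ?_⟩
      show h * a * h⁻¹ * h = h * a
      group
  refine ⟨u, S.ord, ?_, hC, h2, hcard ▸ S.ndvd, S.H_le u.2, hN⟩
  rw [Subgroup.orderOf_coe, hu, hcard]

namespace Frame

variable (F : Frame p e z u)

/-- Coordinates on the normaliser. -/
def elt (z u : G) (x : ZMod p × ZMod e) : G := z ^ x.1.val * u ^ x.2.val

include F

theorem elt_mem (x : ZMod p × ZMod e) :
    elt z u x ∈ Subgroup.normalizer ((Subgroup.zpowers z : Subgroup G) : Set G) :=
  Subgroup.mul_mem _ (Subgroup.le_normalizer (Subgroup.pow_mem _ (Subgroup.mem_zpowers z) _))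
    (Subgroup.pow_mem _ F.mem _)

theorem pow_mem_zpowers {l : ZMod e} (h : u ^ l.val ∈ Subgroup.zpowers z) : l = 0 := by
  have h2 : orderOf (u ^ l.val) ∣ p := by
    have h' := orderOf_dvd_natCard (⟨_, h⟩ : Subgroup.zpowers z)
    rwa [Nat.card_zpowers, F.ordz, Subgroup.orderOf_mk] at h'
  have h1 : orderOf (u ^ l.val) ∣ e := (orderOf_pow_dvd _).trans (dvd_of_eq F.ordu)
  rcases (Nat.dvd_prime hp.out).1 h2 with h3 | h3
  · rw [orderOf_eq_one_iff, ← orderOf_dvd_iff_pow_eq_one, F.ordu] at h3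
    exact (ZMod.val_eq_zero l).1 (Nat.eq_zero_of_dvd_of_lt h3 (ZMod.val_lt l))
  · exact absurd (h3 ▸ h1) F.ndvd

theorem upow_add (l l' : ZMod e) : u ^ (l + l').val = u ^ l.val * u ^ l'.val := by
  rw [ZMod.val_add, ← pow_add]
  conv_rhs => rw [← pow_mod_orderOf, F.ordu]

theorem elt_injective : Function.Injective (elt (p := p) (e := e) z u) := by
  rintro ⟨i, l⟩ ⟨j, l'⟩ h
  simp only [elt] at h
  obtain ⟨d, rfl⟩ : ∃ d, l = d + l' := ⟨l - l', (sub_add_cancel l l').symm⟩
  rw [F.upow_add, ← mul_assoc] at h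
  have h1 : z ^ i.val * u ^ d.val = z ^ j.val := mul_right_cancel h
  have h2 : u ^ d.val ∈ Subgroup.zpowers z := by
    rw [eq_inv_mul_iff_mul_eq.2 h1]
    exact Subgroup.mul_mem _ (Subgroup.inv_mem _ (Subgroup.pow_mem _ (Subgroup.mem_zpowers z) _))
      (Subgroup.pow_mem _ (Subgroup.mem_zpowers z) _)
  obtain rfl := F.pow_mem_zpowers h2
  rw [ZMod.val_zero, pow_zero, mul_one] at h1
  rw [(zpow_val_eq_iff F.ordz).1 h1, zero_add]

variable [Finite G]

theorem exists_elt {g : G}
    (hg : g ∈ Subgroup.normalizer ((Subgroup.zpowers z : Subgroup G) : Set G)) :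
    ∃ x : ZMod p × ZMod e, elt z u x = g := by
  have hb := (Nat.bijective_iff_injective_and_card
    fun x : ZMod p × ZMod e => (⟨elt z u x, F.elt_mem x⟩ :
      Subgroup.normalizer ((Subgroup.zpowers z : Subgroup G) : Set G))).2
    ⟨fun a b h => F.elt_injective (congrArg Subtype.val h), by
      rw [F.cardN, Nat.card_prod, Nat.card_zmod, Nat.card_zmod]⟩
  obtain ⟨x, hx⟩ := hb.2 ⟨g, hg⟩
  exact ⟨x, congrArg Subtype.val hx⟩

/-- Outside the Sylow subgroup the elements of a coset are conjugate. -/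
theorem exists_conj_pow (i : ZMod p) {l : ZMod e} (hl : l ≠ 0) :
    ∃ j : ℕ, z ^ j * u ^ l.val * (z ^ j)⁻¹ = elt z u (i, l) := by
  set w := u ^ l.val with hw
  have hwN : w ∈ Subgroup.normalizer ((Subgroup.zpowers z : Subgroup G) : Set G) :=
    Subgroup.pow_mem _ F.mem _
  have hmem : ∀ y : Subgroup.zpowers z, (y : G) * w * (y : G)⁻¹ * w⁻¹ ∈ Subgroup.zpowers z := by
    intro y
    rw [show (y : G) * w * (y : G)⁻¹ * w⁻¹ = (y : G) * (w * (y : G)⁻¹ * w⁻¹) by group]
    exact Subgroup.mul_mem _ y.2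
      ((Subgroup.mem_normalizer_iff.1 hwN _).1 (Subgroup.inv_mem _ y.2))
  let f : Subgroup.zpowers z → Subgroup.zpowers z := fun y => ⟨_, hmem y⟩
  have hinj : Function.Injective f := by
    intro a b h
    have h1 : (a : G) * w * (a : G)⁻¹ = (b : G) * w * (b : G)⁻¹ :=
      mul_right_cancel (congrArg Subtype.val h)
    set y : G := (b : G)⁻¹ * a with hy
    have h2 : y * w = w * y := by
      calc y * w = (b : G)⁻¹ * ((a : G) * w * (a : G)⁻¹) * a := by rw [hy]; group
        _ = w * y := by rw [h1, hy]; group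
    have hym : y ∈ Subgroup.zpowers z := Subgroup.mul_mem _ (Subgroup.inv_mem _ b.2) a.2
    by_contra hab
    have hy1 : y ≠ 1 := fun e1 => hab (Subtype.ext (inv_mul_eq_one.1 e1).symm)
    have hgen : Subgroup.zpowers y = Subgroup.zpowers z := by
      refine Subgroup.eq_of_le_of_card_ge (Subgroup.zpowers_le.2 hym) ?_
      rw [Nat.card_zpowers, Nat.card_zpowers]
      have hd : orderOf y ∣ p := by
        have h' := orderOf_dvd_natCard (⟨y, hym⟩ : Subgroup.zpowers z)
        rwa [Nat.card_zpowers, F.ordz, Subgroup.orderOf_mk] at h'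
      rcases (Nat.dvd_prime hp.out).1 hd with h3 | h3
      · exact absurd (orderOf_eq_one_iff.1 h3) hy1
      · rw [h3, F.ordz]
    have hz : z ∈ Subgroup.centralizer ({w} : Set G) := by
      have : Subgroup.zpowers y ≤ Subgroup.centralizer ({w} : Set G) :=
        Subgroup.zpowers_le.2 (Subgroup.mem_centralizer_singleton_iff.2 h2)
      exact this (hgen ▸ Subgroup.mem_zpowers z)
    refine hl (F.pow_mem_zpowers ?_)
    rw [← F.cent, Subgroup.mem_centralizer_singleton_iff, ← hw]
    exact (Subgroup.mem_centralizer_singleton_iff.1 hz).symm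
  obtain ⟨⟨y, hy⟩, hfy⟩ :=
    (Finite.injective_iff_surjective.1 hinj) ⟨_, Subgroup.pow_mem _ (Subgroup.mem_zpowers z) i.val⟩
  obtain ⟨j, rfl⟩ := (mem_powers_iff_mem_zpowers).2 hy
  refine ⟨j, ?_⟩
  have h1 : z ^ j * w * (z ^ j)⁻¹ * w⁻¹ = z ^ i.val := congrArg Subtype.val hfy
  rw [elt, ← h1, ← hw, inv_mul_cancel_right]

/-- The product of two elements in coordinates. -/
theorem elt_mul (x y : ZMod p × ZMod e) :
    ∃ i : ZMod p, elt z u x * elt z u y = elt z u (i, x.2 + y.2) := by
  have h : u ^ x.2.val * z ^ y.1.val * (u ^ x.2.val)⁻¹ ∈ Subgroup.zpowers z :=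
    (Subgroup.mem_normalizer_iff.1 (Subgroup.pow_mem _ F.mem _) _).1
      (Subgroup.pow_mem _ (Subgroup.mem_zpowers z) _)
  obtain ⟨k, hk⟩ := (mem_powers_iff_mem_zpowers).2 h
  refine ⟨x.1 + (k : ZMod p), ?_⟩
  simp only [elt]
  rw [pow_val_add F.ordz, pow_val_natCast F.ordz, F.upow_add, show z ^ k =
    u ^ x.2.val * z ^ y.1.val * (u ^ x.2.val)⁻¹ from hk]
  group

end Frame

end Cfsg.Agent.H31.FewSylow
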