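import Mathlib
import Cfsg.Agent.H31.FewSylow.Frame
import Cfsg.Agent.H26.CharFS

/-!
Multiplicities of the linear characters of the normaliser in the irreducible characters.
-/

set_option autoImplicit false
set_option linter.unusedSectionVars false

namespace Cfsg.Agent.H31.FewSylow

open Cfsg.Agent.H31.Defect
open scoped ComplexConjugate

variable {G : Type*} [Group G] [Fintype G] {p e : ℕ} [hp : Fact p.Prime] [NeZero e] {z u : G}

theorem sum_std {N : ℕ} [NeZero N] (a : ZMod N) :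
    ∑ k : ZMod N, (ZMod.stdAddChar (k * a) : ℂ) = if a = 0 then (N : ℂ) else 0 := by
  have h := AddChar.sum_mulShift a (ZMod.isPrimitive_stdAddChar N)
  rw [ZMod.card] at h
  rw [h]
  split_ifs <;> simp

theorem conj_std {N : ℕ} [NeZero N] (a : ZMod N) :
    conj (ZMod.stdAddChar a : ℂ) = ZMod.stdAddChar (-a) :=
  (AddChar.map_neg_eq_conj _ _).symm

namespace Frame

/-- The linear character of index `k` of the normaliser, extended by zero. -/
noncomputable def lam (p : ℕ) {e : ℕ} [NeZero e] (z u : G) (k : ZMod e) : G → ℂ :=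
  Function.extend (elt (p := p) (e := e) z u) (fun x => ZMod.stdAddChar (k * x.2)) 0

variable (F : Frame p e z u)
include F

theorem lam_elt (k : ZMod e) (x : ZMod p × ZMod e) :
    lam p z u k (elt z u x) = ZMod.stdAddChar (k * x.2) :=
  F.elt_injective.extend_apply _ _ x

theorem lam_eq_zero (k : ZMod e) {g : G}
    (hg : g ∉ Subgroup.normalizer ((Subgroup.zpowers z : Subgroup G) : Set G)) :
    lam p z u k g = 0 :=
  Function.extend_apply' _ _ _ fun ⟨x, hx⟩ => hg (hx ▸ F.elt_mem x)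

theorem lam_ne_zero (k : ZMod e) {g : G}
    (hg : g ∈ Subgroup.normalizer ((Subgroup.zpowers z : Subgroup G) : Set G)) :
    lam p z u k g ≠ 0 := by
  obtain ⟨x, rfl⟩ := F.exists_elt hg
  rw [F.lam_elt]
  exact (AddChar.val_isUnit _ _).ne_zero

theorem mem_of_lam_ne_zero {k : ZMod e} {g : G} (h : lam p z u k g ≠ 0) :
    g ∈ Subgroup.normalizer ((Subgroup.zpowers z : Subgroup G) : Set G) := by
  by_contra hg
  exact h (F.lam_eq_zero k hg)

theorem lam_mul (k : ZMod e) (a : G) {b : G}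
    (hb : b ∈ Subgroup.normalizer ((Subgroup.zpowers z : Subgroup G) : Set G)) :
    lam p z u k (a * b) = lam p z u k a * lam p z u k b := by
  by_cases ha : a ∈ Subgroup.normalizer ((Subgroup.zpowers z : Subgroup G) : Set G)
  · obtain ⟨x, rfl⟩ := F.exists_elt ha
    obtain ⟨y, rfl⟩ := F.exists_elt hb
    obtain ⟨i, hi⟩ := F.elt_mul x y
    rw [hi, F.lam_elt, F.lam_elt, F.lam_elt, mul_add, AddChar.map_add_eq_mul]
  · rw [F.lam_eq_zero k ha, F.lam_eq_zero k fun h => ha ((Subgroup.mul_mem_cancel_right _ hb).1 h),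
      zero_mul]

theorem lam_one (k : ZMod e) : lam p z u k 1 = 1 := by
  have h : elt z u ((0 : ZMod p), (0 : ZMod e)) = 1 := by simp [elt]
  rw [← h, F.lam_elt, mul_zero, AddChar.map_zero_eq_one]

theorem lam_inv (k : ZMod e) (g : G) : lam p z u k g⁻¹ = conj (lam p z u k g) := by
  by_cases hg : g ∈ Subgroup.normalizer ((Subgroup.zpowers z : Subgroup G) : Set G)
  · have h1 := F.lam_mul k g⁻¹ hg
    rw [inv_mul_cancel, F.lam_one] at h1
    obtain ⟨x, rfl⟩ := F.exists_elt hg
    rw [F.lam_elt] at h1 ⊢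
    refine mul_right_cancel₀ (AddChar.val_isUnit ZMod.stdAddChar (k * x.2)).ne_zero ?_
    rw [← h1, conj_std, ← AddChar.map_add_eq_mul, neg_add_cancel, AddChar.map_zero_eq_one]
  · rw [F.lam_eq_zero k hg, F.lam_eq_zero k fun h => hg ((Subgroup.inv_mem_iff _).1 h), map_zero]

theorem lam_neg (k : ZMod e) (g : G) : lam p z u (-k) g = conj (lam p z u k g) := by
  by_cases hg : g ∈ Subgroup.normalizer ((Subgroup.zpowers z : Subgroup G) : Set G)
  · obtain ⟨x, rfl⟩ := F.exists_elt hg
    rw [F.lam_elt, F.lam_elt, conj_std, neg_mul]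
  · rw [F.lam_eq_zero k hg, F.lam_eq_zero _ hg, map_zero]

theorem lam_zero {g : G}
    (hg : g ∈ Subgroup.normalizer ((Subgroup.zpowers z : Subgroup G) : Set G)) :
    lam p z u (0 : ZMod e) g = 1 := by
  obtain ⟨x, rfl⟩ := F.exists_elt hg
  rw [F.lam_elt, zero_mul, AddChar.map_zero_eq_one]

theorem sum_lam (f : G → ℂ) (k : ZMod e) :
    ∑ y, f y * conj (lam p z u k y) =
      ∑ x : ZMod p × ZMod e, f (elt z u x) * conj (ZMod.stdAddChar (k * x.2)) := by
  classical
  rw [← Finset.sum_subset (s₁ := Finset.univ.image (elt (p := p) (e := e) z u))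
    (Finset.subset_univ _) fun y _ hy => ?_, Finset.sum_image fun a _ b _ h => F.elt_injective h]
  · exact Finset.sum_congr rfl fun x _ => by rw [F.lam_elt]
  · rw [F.lam_eq_zero k fun h => hy ?_, map_zero, mul_zero]
    obtain ⟨x, hx⟩ := F.exists_elt h
    exact Finset.mem_image.2 ⟨x, Finset.mem_univ _, hx⟩

theorem exists_mult (η : Cfsg.IrrCharacter G) (k : ZMod e) :
    ∃ r : ℕ, (r : ℂ) * (p * e : ℕ) = ∑ y, η.1 y * conj (lam p z u k y) := by
  classical
  set N := Subgroup.normalizer ((Subgroup.zpowers z : Subgroup G) : Set G) with hN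
  let f : N →* ℂ :=
    { toFun := fun g => lam p z u k g.1
      map_one' := F.lam_one k
      map_mul' := fun g h => F.lam_mul k g.1 h.2 }
  obtain ⟨r, hr⟩ := H26.exists_nat_classInner_irr
    (H26.isCharacter_comp (H26.irr_isCharacter η) N.subtype)
    ⟨fun g => ((f.toHomUnits g : ℂˣ) : ℂ), H26.isIrrCharacter_hom f.toHomUnits⟩
  refine ⟨r, ?_⟩
  rw [Cfsg.classInner, F.cardN] at hr
  rw [← hr, mul_right_comm, inv_mul_cancel₀ (Nat.cast_ne_zero.2
    (mul_ne_zero hp.out.ne_zero (NeZero.ne e))), one_mul]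
  rw [F.sum_lam]
  refine (Fintype.sum_bijective (fun x => (⟨elt z u x, F.elt_mem x⟩ : N)) ⟨?_, ?_⟩ _ _ fun x => ?_).symm
  · exact fun a b h => F.elt_injective (congrArg Subtype.val h)
  · rintro ⟨g, hg⟩
    obtain ⟨x, hx⟩ := F.exists_elt hg
    exact ⟨x, Subtype.ext hx⟩
  · show η.1 (elt z u x) * _ = η.1 (elt z u x) * conj (lam p z u k (elt z u x))
    rw [F.lam_elt]

/-- The multiplicity of the linear character `k` in `η`. -/
noncomputable def mult (η : Cfsg.IrrCharacter G) (k : ZMod e) : ℕ := (F.exists_mult η k).choose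

theorem mult_spec (η : Cfsg.IrrCharacter G) (k : ZMod e) :
    (F.mult η k : ℂ) * (p * e : ℕ) = ∑ y, η.1 y * conj (lam p z u k y) :=
  (F.exists_mult η k).choose_spec

theorem cast_pe_ne_zero : ((p * e : ℕ) : ℂ) ≠ 0 :=
  Nat.cast_ne_zero.2 (mul_ne_zero hp.out.ne_zero (NeZero.ne e))

/-- The average of a character over a coset of the Sylow subgroup. -/
theorem mult_eq (η : Cfsg.IrrCharacter G) (k : ZMod e) :
    (F.mult η k : ℂ) * e = ∑ l : ZMod e,
      ((p : ℂ)⁻¹ * ∑ i : ZMod p, η.1 (elt z u (i, l))) * conj (ZMod.stdAddChar (k * l)) := by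
  have h := F.mult_spec η k
  rw [F.sum_lam, Fintype.sum_prod_type, Finset.sum_comm] at h
  refine mul_left_cancel₀ (Nat.cast_ne_zero.2 hp.out.ne_zero : (p : ℂ) ≠ 0) ?_
  calc (p : ℂ) * ((F.mult η k : ℂ) * e) = (F.mult η k : ℂ) * (p * e : ℕ) := by push_cast; ring
    _ = _ := by
      rw [h, Finset.mul_sum]
      refine Finset.sum_congr rfl fun l _ => ?_
      show ∑ i, η.1 (elt z u (i, l)) * conj (ZMod.stdAddChar (k * l)) = _
      rw [← Finset.sum_mul, ← mul_assoc, ← mul_assoc,
        mul_inv_cancel₀ (Nat.cast_ne_zero.2 hp.out.ne_zero), one_mul]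

/-- Fourier inversion. -/
theorem sum_mult_mul (η : Cfsg.IrrCharacter G) (l : ZMod e) :
    ∑ k : ZMod e, (F.mult η k : ℂ) * ZMod.stdAddChar (k * l) =
      (p : ℂ)⁻¹ * ∑ i : ZMod p, η.1 (elt z u (i, l)) := by
  refine mul_left_cancel₀ (Nat.cast_ne_zero.2 (NeZero.ne e) : (e : ℂ) ≠ 0) ?_
  calc (e : ℂ) * ∑ k : ZMod e, (F.mult η k : ℂ) * ZMod.stdAddChar (k * l)
      = ∑ k : ZMod e, ((F.mult η k : ℂ) * e) * ZMod.stdAddChar (k * l) := by
        rw [Finset.mul_sum]; exact Finset.sum_congr rfl fun k _ => by ring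
    _ = ∑ j : ZMod e, ((p : ℂ)⁻¹ * ∑ i : ZMod p, η.1 (elt z u (i, j))) *
          ∑ k : ZMod e, (ZMod.stdAddChar (k * (l - j)) : ℂ) := by
        simp only [F.mult_eq, Finset.sum_mul]
        rw [Finset.sum_comm]
        refine Finset.sum_congr rfl fun j _ => ?_
        refine Eq.trans (Finset.sum_congr rfl fun k _ => ?_) (Finset.mul_sum _ _ _).symm
        rw [conj_std, mul_assoc, ← AddChar.map_add_eq_mul]
        congr 2
        ring
    _ = _ := by
        have h0 : ∀ j : ZMod e, ((p : ℂ)⁻¹ * ∑ i : ZMod p, η.1 (elt z u (i, j))) *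
            ∑ k : ZMod e, (ZMod.stdAddChar (k * (l - j)) : ℂ) =
            if j = l then (e : ℂ) * ((p : ℂ)⁻¹ * ∑ i : ZMod p, η.1 (elt z u (i, l))) else 0 := by
          intro j
          rw [sum_std]
          split_ifs with h1 h2 h2
          · rw [sub_eq_zero] at h1; subst h1; ring
          · exact absurd (sub_eq_zero.1 h1).symm h2
          · exact absurd (by rw [h2, sub_self]) h1
          · rw [mul_zero]
        rw [Finset.sum_congr rfl fun j _ => h0 j, Finset.sum_ite_eq', if_pos (Finset.mem_univ _)]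

theorem coset_value (η : Cfsg.IrrCharacter G) {l : ZMod e} (hl : l ≠ 0) :
    (p : ℂ)⁻¹ * ∑ i : ZMod p, η.1 (elt z u (i, l)) = η.1 (u ^ l.val) := by
  have h : ∀ i : ZMod p, η.1 (elt z u (i, l)) = η.1 (u ^ l.val) := fun i => by
    obtain ⟨j, hj⟩ := F.exists_conj_pow i hl
    rw [← hj, H26.irr_conj]
  rw [Finset.sum_congr rfl fun i _ => h i, Finset.sum_const, Finset.card_univ, ZMod.card,
    nsmul_eq_mul, ← mul_assoc, inv_mul_cancel₀ (Nat.cast_ne_zero.2 hp.out.ne_zero), one_mul]

/-- The values on the complement. -/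
theorem value_eq (η : Cfsg.IrrCharacter G) {l : ZMod e} (hl : l ≠ 0) :
    η.1 (u ^ l.val) = ∑ k : ZMod e, (F.mult η k : ℂ) * ZMod.stdAddChar (k * l) := by
  rw [F.sum_mult_mul, F.coset_value η hl]

/-- The induced character. -/
theorem induced (k : ZMod e) (g : G) :
    (∑ η : Cfsg.IrrCharacter G, (F.mult η k : ℂ) * η.1 g) * (p * e : ℕ) =
      ∑ x : G, lam p z u k (x * g * x⁻¹) := by
  classical
  calc (∑ η : Cfsg.IrrCharacter G, (F.mult η k : ℂ) * η.1 g) * (p * e : ℕ)
      = ∑ η : Cfsg.IrrCharacter G, (∑ y, η.1 y * conj (lam p z u k y)) * conj (η.1 g⁻¹) := by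
        rw [Finset.sum_mul]
        refine Finset.sum_congr rfl fun η _ => ?_
        rw [← F.mult_spec, H26.irr_inv η g, Complex.conj_conj]
        ring
    _ = ∑ y, conj (lam p z u k y) *
          ((Finset.univ.filter fun x : G => x * g⁻¹ * x⁻¹ = y).card : ℂ) := by
        simp only [Finset.sum_mul]
        rw [Finset.sum_comm]
        refine Finset.sum_congr rfl fun y _ => ?_
        rw [← sum_irr_mul_conj y g⁻¹, Finset.mul_sum]
        exact Finset.sum_congr rfl fun η _ => by ring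
    _ = ∑ x : G, conj (lam p z u k (x * g⁻¹ * x⁻¹)) := by
        rw [← Finset.sum_fiberwise (Finset.univ : Finset G) (fun x => x * g⁻¹ * x⁻¹)
          (fun x => conj (lam p z u k (x * g⁻¹ * x⁻¹)))]
        refine Finset.sum_congr rfl fun y _ => ?_
        rw [Finset.sum_congr rfl fun x hx => by rw [(Finset.mem_filter.1 hx).2],
          Finset.sum_const, nsmul_eq_mul, mul_comm]
    _ = _ := Finset.sum_congr rfl fun x _ => by
        rw [← F.lam_inv]; congr 1; group

/-- The degree of the induced character. -/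
theorem sum_mult_deg {n : ℕ} (hG : Nat.card G = p * e * (n * p + 1)) (k : ZMod e) :
    ∑ η : Cfsg.IrrCharacter G, F.mult η k * Cfsg.charDegree η.1 = n * p + 1 := by
  have h := F.induced k 1
  simp only [mul_one, mul_inv_cancel, F.lam_one, Finset.sum_const, Finset.card_univ,
    nsmul_eq_mul, ← Nat.card_eq_fintype_card, hG] at h
  refine Nat.cast_injective (R := ℂ) (mul_right_cancel₀ F.cast_pe_ne_zero ?_)
  rw [← Nat.cast_mul (n * p + 1), Nat.cast_sum]
  rw [show ((n * p + 1) * (p * e) : ℕ) = p * e * (n * p + 1) by ring, ← h]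
  congr 1
  exact Finset.sum_congr rfl fun η _ => by rw [(irr_degree η).1, Nat.cast_mul]

/-- The norm of the induced character. -/
theorem norm_sq (k : ZMod e) :
    (∑ η : Cfsg.IrrCharacter G, (F.mult η k : ℂ) ^ 2) * ((p * e : ℕ) * (p * e : ℕ)) =
      ∑ x : G, ∑ y : G, conj (lam p z u k y) * lam p z u k (x * y * x⁻¹) := by
  rw [Finset.sum_comm, ← mul_assoc, Finset.sum_mul, Finset.sum_mul]
  simp only [← Finset.mul_sum, ← F.induced, Finset.sum_mul]
  rw [Finset.sum_congr rfl (s₁ := (Finset.univ : Finset (Cfsg.IrrCharacter G))) (g := fun η =>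
    ∑ y, (F.mult η k : ℂ) * (η.1 y * conj (lam p z u k y)) * (p * e : ℕ)) fun η _ => ?_]
  · rw [Finset.sum_comm]
    simp only [Finset.mul_sum]
    exact Finset.sum_congr rfl fun y _ => Finset.sum_congr rfl fun η _ => by ring
  · rw [← Finset.sum_mul, ← Finset.mul_sum, ← F.mult_spec]
    ring

theorem mult_conjIrr (η : Cfsg.IrrCharacter G) (k : ZMod e) :
    F.mult (H26.conjIrr η) k = F.mult η (-k) := by
  refine Nat.cast_injective (R := ℂ) (mul_right_cancel₀ F.cast_pe_ne_zero ?_)
  rw [F.mult_spec]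
  have h := congrArg conj (F.mult_spec η (-k))
  rw [map_mul, Complex.conj_natCast, Complex.conj_natCast, map_sum] at h
  rw [h]
  refine Finset.sum_congr rfl fun y _ => ?_
  rw [H26.conjIrr_val, F.lam_neg, Complex.conj_conj, map_mul]

theorem mult_one (k : ZMod e) : F.mult (H26.oneIrr G) k = if k = 0 then 1 else 0 := by
  have h := F.mult_eq (H26.oneIrr G) k
  simp only [H26.oneIrr_val, Finset.sum_const, Finset.card_univ, ZMod.card, nsmul_eq_mul, mul_one,
    inv_mul_cancel₀ (Nat.cast_ne_zero.2 hp.out.ne_zero : (p : ℂ) ≠ 0), one_mul, ← map_sum] at h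
  simp only [mul_comm k, sum_std, apply_ite conj, Complex.conj_natCast, map_zero] at h
  refine Nat.cast_injective (R := ℂ) (mul_right_cancel₀ (b := (e : ℂ))
    (Nat.cast_ne_zero.2 (NeZero.ne e)) ?_)
  rw [h]
  split_ifs <;> simp

end Frame

end Cfsg.Agent.H31.FewSylow
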