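import Mathlib
import Cfsg.Agent.H31.FewSylow.Degrees
import Cfsg.Agent.H31.FewSylow.Mult

/-!
The block of defect one seen from the linear characters of the normaliser.
-/

set_option autoImplicit false
set_option linter.unusedSectionVars false

namespace Cfsg.Agent.H31.FewSylow

open Cfsg.Agent.H31.Defect
open scoped ComplexConjugate

/-- The element of order two of `ZMod e`. -/
def half (e : ℕ) : ZMod e := ((e / 2 : ℕ) : ZMod e)

theorem half_val {e : ℕ} [NeZero e] : (half e).val = e / 2 := by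
  rw [half, ZMod.val_natCast, Nat.mod_eq_of_lt (Nat.div_lt_self (NeZero.pos e) one_lt_two)]

theorem half_ne_zero {e : ℕ} [NeZero e] (h2 : 2 ≤ e) : half e ≠ 0 := by
  intro h
  have := (ZMod.val_eq_zero (half e)).2 h
  rw [half_val] at this
  omega

theorem half_add_half {e : ℕ} (he : Even e) : half e + half e = 0 := by
  obtain ⟨r, rfl⟩ := he
  rw [half, ← Nat.cast_add, show (r + r) / 2 + (r + r) / 2 = r + r by omega, ZMod.natCast_self]

theorem eq_half_of_add_self {e : ℕ} [NeZero e] {x : ZMod e} (hx : x + x = 0) (h0 : x ≠ 0) :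
    x = half e ∧ Even e := by
  have hlt := ZMod.val_lt x
  have hv0 : 0 < x.val := Nat.pos_of_ne_zero fun h => h0 ((ZMod.val_eq_zero x).1 h)
  have h1 : e ∣ x.val + x.val := by
    refine (CharP.cast_eq_zero_iff (ZMod e) e _).1 ?_
    simpa using hx
  obtain ⟨c, hc⟩ := h1
  have hc1 : c = 1 := by
    rcases Nat.lt_or_ge c 2 with h | h
    · rcases Nat.eq_zero_or_pos c with rfl | hcp
      · omega
      · omega
    · have := Nat.mul_le_mul_left e h
      omega
  rw [hc1, mul_one] at hc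
  refine ⟨ZMod.val_injective e ?_, ⟨x.val, hc.symm⟩⟩
  rw [half_val]
  omega

theorem std_half {e : ℕ} [NeZero e] (h2 : 2 ≤ e) (he : Even e) :
    (ZMod.stdAddChar (half e) : ℂ) = -1 := by
  refine (mul_self_eq_one_iff.1 ?_).resolve_left fun h => half_ne_zero h2
    (ZMod.injective_stdAddChar (h.trans (AddChar.map_zero_eq_one _).symm))
  rw [← AddChar.map_add_eq_mul, half_add_half he, AddChar.map_zero_eq_one]

theorem std_half_mul {e : ℕ} [NeZero e] (h2 : 2 ≤ e) (he : Even e) (l : ZMod e) :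
    (ZMod.stdAddChar (half e * l) : ℂ) = (-1) ^ l.val := by
  rw [← std_half h2 he, ← AddChar.map_nsmul_eq_pow, nsmul_eq_mul, ZMod.natCast_zmod_val, mul_comm]

/-- The sum over the powers of an element against a root of unity. -/
theorem mult_cyclic {G : Type*} [Group G] [Fintype G] (χ : Cfsg.IrrCharacter G) {m : ℕ} [NeZero m]
    {g : G} (hg : g ^ m = 1) (k : ZMod m) :
    ∃ r : ℕ, (r : ℂ) * m = ∑ l : ZMod m, χ.1 (g ^ l.val) * conj (ZMod.stdAddChar (k * l)) := by
  classical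
  have hpow : ∀ a b : ZMod m, g ^ (a + b).val = g ^ a.val * g ^ b.val := fun a b => by
    rw [ZMod.val_add, ← pow_add, ← pow_eq_pow_mod _ hg]
  let φ : Multiplicative (ZMod m) →* G :=
    { toFun := fun x => g ^ (Multiplicative.toAdd x).val
      map_one' := by simp
      map_mul' := fun x y => hpow _ _ }
  let f : Multiplicative (ZMod m) →* ℂˣ :=
    (AddChar.toMonoidHomEquiv ((ZMod.stdAddChar (N := m)).mulShift k)).toHomUnits
  obtain ⟨r, hr⟩ := H26.exists_nat_classInner_irr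
    (H26.isCharacter_comp (H26.irr_isCharacter χ) φ)
    ⟨fun x => (f x : ℂ), H26.isIrrCharacter_hom f⟩
  refine ⟨r, ?_⟩
  rw [Cfsg.classInner, show Nat.card (Multiplicative (ZMod m)) = m by
    rw [Nat.card_congr Multiplicative.toAdd, Nat.card_zmod]] at hr
  rw [← hr, mul_right_comm, inv_mul_cancel₀ (Nat.cast_ne_zero.2 (NeZero.ne m)), one_mul]
  refine (Fintype.sum_equiv Multiplicative.ofAdd _ _ fun l => ?_).symm
  show χ.1 (g ^ l.val) * _ = χ.1 (g ^ l.val) * conj ((f (Multiplicative.ofAdd l) : ℂˣ) : ℂ)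
  simp [f, MonoidHom.toHomUnits, AddChar.toMonoidHomEquiv, AddChar.mulShift_apply]

variable {G : Type*} [Group G] [Fintype G] {p e n : ℕ} [hp : Fact p.Prime] [NeZero e] {z u : G}

/-- Everything known before the case division. -/
structure Setting (p e n : ℕ) [Fact p.Prime] (z u : G) where
  B : BlockData p z (⊥ : Subgroup G)
  frame : Frame p e z u
  he : (H30.conjExps p z).card = e
  shape : Shape B n
  card : Nat.card G = p * e * (n * p + 1)
  n_pos : 1 ≤ n

namespace Setting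

variable (X : Setting p e n z u)

/-- The block contribution. -/
def c (χ : Cfsg.IrrCharacter G) : ℤ := X.B.b χ - X.B.m χ 0

include X

theorem et : e * X.B.t + 1 = p := by
  have h := X.B.et
  rw [X.he] at h
  have := hp.out.one_le
  omega

theorem t_pos : 1 ≤ X.B.t := Nat.pos_of_ne_zero fun h => by
  have := X.et
  rw [h, mul_zero] at this
  exact hp.out.ne_one this.symm

theorem e_lt : e < p := by
  have h1 := X.et
  have h2 : e * 1 ≤ e * X.B.t := Nat.mul_le_mul_left e X.t_pos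
  omega

theorem three_le : 3 ≤ p := by
  have := X.frame.two_le
  have := X.e_lt
  omega

theorem exists_K : ∃ θ, θ ∈ X.B.K := Finset.card_pos.1 (by rw [X.B.cardK]; exact X.t_pos)

theorem fix (χ : Cfsg.IrrCharacter G) :
    (X.B.m χ 0 : ℂ) * p = ∑ i : ZMod p, χ.1 (z ^ i.val) := by
  classical
  have h := X.B.m_spec χ 0
  rw [Subgroup.card_bot, mul_one] at h
  rw [h]
  refine Finset.sum_congr rfl fun i _ => ?_
  rw [zero_mul, AddChar.map_zero_eq_one, map_one, mul_one, vsum_eq,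
    Fintype.sum_unique, show ((default : (⊥ : Subgroup G)) : G) = 1 from
      Subgroup.mem_bot.1 (Subtype.prop _), mul_one]

theorem value_z {χ : Cfsg.IrrCharacter G} (hc : X.c χ ≠ 0) {i : ZMod p} (hi : i ≠ 0) :
    χ.1 (z ^ i.val) = -(X.c χ : ℂ) := by
  have h := X.B.val χ hc i hi 1
  rw [Subgroup.coe_one, mul_one] at h
  rw [h]
  simp [c]

theorem sum_erase_K {θ : Cfsg.IrrCharacter G} (hθ : θ ∈ X.B.K) :
    ∑ i ∈ Finset.univ.erase (0 : ZMod p), θ.1 (z ^ i.val) = -((X.B.ε : ℂ) * e) := by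
  classical
  have h : ∀ i ∈ Finset.univ.erase (0 : ZMod p), θ.1 (z ^ i.val) =
      (X.B.ε : ℂ) * ∑ k ∈ fib X.B.κ θ, ZMod.stdAddChar (k * i) := fun i hi => by
    have h := X.B.valK θ hθ i (Finset.ne_of_mem_erase hi) 1
    rwa [Subgroup.coe_one, mul_one] at h
  rw [Finset.sum_congr rfl h, ← Finset.mul_sum, Finset.sum_comm]
  have h2 : ∀ k ∈ fib X.B.κ θ,
      ∑ i ∈ Finset.univ.erase (0 : ZMod p), (ZMod.stdAddChar (k * i) : ℂ) = -1 := by
    intro k hk
    simp only [mul_comm k]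
    exact sum_std_ne_zero (mem_fib.1 hk).1
  rw [Finset.sum_congr rfl h2, Finset.sum_const, X.B.fiber θ hθ, X.he, nsmul_eq_mul]
  ring

theorem sum_z_split (χ : Cfsg.IrrCharacter G) : ∑ i : ZMod p, χ.1 (z ^ i.val) =
    (Cfsg.charDegree χ.1 : ℂ) + ∑ i ∈ Finset.univ.erase (0 : ZMod p), χ.1 (z ^ i.val) := by
  rw [← Finset.add_sum_erase _ _ (Finset.mem_univ (0 : ZMod p)), ZMod.val_zero, pow_zero,
    (irr_degree χ).1]

theorem card_erase : ((Finset.univ.erase (0 : ZMod p)).card : ℂ) = (p : ℂ) - 1 := by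
  rw [Finset.card_erase_of_mem (Finset.mem_univ _), Finset.card_univ, ZMod.card,
    Nat.cast_sub hp.out.one_le, Nat.cast_one]

theorem fix_of_c {χ : Cfsg.IrrCharacter G} (hc : X.c χ ≠ 0) :
    (X.B.m χ 0 : ℤ) * p = Cfsg.charDegree χ.1 - ((p : ℤ) - 1) * X.c χ := by
  have h := X.fix χ
  rw [X.sum_z_split, Finset.sum_congr rfl fun i hi => X.value_z hc (Finset.ne_of_mem_erase hi),
    Finset.sum_const, nsmul_eq_mul, X.card_erase] at h
  refine Int.cast_injective (α := ℂ) ?_
  push_cast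
  rw [h]
  ring

theorem fix_K {θ : Cfsg.IrrCharacter G} (hθ : θ ∈ X.B.K) :
    (X.B.m θ 0 : ℤ) * p = X.B.D - X.B.ε * e := by
  have h := X.fix θ
  rw [X.sum_z_split, X.B.degK θ hθ, X.sum_erase_K hθ] at h
  refine Int.cast_injective (α := ℂ) ?_
  push_cast
  rw [h]
  ring

theorem c_K {θ : Cfsg.IrrCharacter G} (hθ : θ ∈ X.B.K) : X.c θ = 0 := by
  rw [c, X.B.bK θ hθ, sub_self]

theorem c_one : X.c (H26.oneIrr G) = -1 := by simp [c, X.B.b_one, X.B.m_one]

theorem fix_big {χ : Cfsg.IrrCharacter G} (hd : Cfsg.charDegree χ.1 = n * p + 1)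
    (hc : X.c χ = -1) : X.B.m χ 0 = n + 1 := by
  have h := X.fix_of_c (χ := χ) (by rw [hc]; decide)
  rw [hd, hc] at h
  push_cast at h
  have h' : (X.B.m χ 0 : ℤ) * p = ((n : ℤ) + 1) * p := by rw [h]; ring
  exact_mod_cast mul_right_cancel₀ (Nat.cast_ne_zero.2 hp.out.ne_zero) h'

theorem fix_small {χ : Cfsg.IrrCharacter G} (hd : Cfsg.charDegree χ.1 = p - 1)
    (hc : X.c χ = 1) : X.B.m χ 0 = 0 := by
  have h := X.fix_of_c (χ := χ) (by rw [hc]; decide)
  rw [hd, hc, Nat.cast_sub hp.out.one_le] at h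
  push_cast at h
  have h' : (X.B.m χ 0 : ℤ) * p = 0 * p := by rw [h]; ring
  exact_mod_cast mul_right_cancel₀ (Nat.cast_ne_zero.2 hp.out.ne_zero) h'

theorem fix_other {χ : Cfsg.IrrCharacter G} (hK : χ ∉ X.B.K) (hc : X.c χ = 0) :
    X.B.m χ 0 * p = Cfsg.charDegree χ.1 := by
  classical
  have h := X.fix χ
  have h0 : ∀ i ∈ Finset.univ.erase (0 : ZMod p), χ.1 (z ^ i.val) = 0 := fun i hi => by
    have h := X.B.valZero χ hK hc i (Finset.ne_of_mem_erase hi)
    rwa [vsum_eq, Fintype.sum_unique, show ((default : (⊥ : Subgroup G)) : G) = 1 from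
      Subgroup.mem_bot.1 (Subtype.prop _), mul_one] at h
  rw [X.sum_z_split, Finset.sum_eq_zero h0, add_zero] at h
  exact_mod_cast h

theorem fix_K_pos {θ : Cfsg.IrrCharacter G} (hθ : θ ∈ X.B.K) (hε : X.B.ε = 1) :
    X.B.m θ 0 = 0 := by
  rcases X.shape.cases with ⟨-, hD, -⟩ | ⟨h, -⟩
  · have h := X.fix_K hθ
    rw [hε, one_mul, hD, X.he, sub_self, mul_eq_zero] at h
    have := h.resolve_right (Nat.cast_ne_zero.2 hp.out.ne_zero)
    exact_mod_cast this
  · rw [hε] at h; exact absurd h (by decide)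

theorem D_neg (hε : X.B.ε = -1) : X.B.t * X.B.D = n * p + 1 := by
  rcases X.shape.cases with ⟨h, -⟩ | ⟨-, h, -⟩
  · rw [hε] at h; exact absurd h (by decide)
  · exact h

theorem fix_K_neg {θ : Cfsg.IrrCharacter G} (hθ : θ ∈ X.B.K) (hε : X.B.ε = -1) :
    X.B.m θ 0 * X.B.t = n + 1 := by
  have h := X.fix_K hθ
  rw [hε] at h
  have hD : (X.B.t : ℤ) * X.B.D = (n : ℤ) * p + 1 := by exact_mod_cast X.D_neg hε
  have het : (e : ℤ) * X.B.t + 1 = p := by exact_mod_cast X.et
  have h' : ((X.B.m θ 0 : ℤ) * X.B.t) * p = ((n : ℤ) + 1) * p := by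
    linear_combination (X.B.t : ℤ) * h + hD + het
  exact_mod_cast mul_right_cancel₀ (Nat.cast_ne_zero.2 hp.out.ne_zero) h'

theorem coset_zero (χ : Cfsg.IrrCharacter G) :
    (p : ℂ)⁻¹ * ∑ i : ZMod p, χ.1 (Frame.elt z u (i, (0 : ZMod e))) = (X.B.m χ 0 : ℂ) := by
  simp only [Frame.elt, ZMod.val_zero, pow_zero, mul_one]
  rw [← X.fix χ, mul_comm, mul_assoc, mul_inv_cancel₀ (Nat.cast_ne_zero.2 hp.out.ne_zero), mul_one]

theorem sum_mult (χ : Cfsg.IrrCharacter G) :
    ∑ k : ZMod e, X.frame.mult χ k = X.B.m χ 0 := by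
  have h := X.frame.sum_mult_mul χ 0
  simp only [mul_zero, AddChar.map_zero_eq_one, mul_one, X.coset_zero] at h
  exact_mod_cast h

theorem regular_pow (l : ZMod e) : ¬ p ∣ orderOf (u ^ l.val) := fun h =>
  X.frame.ndvd (h.trans ((orderOf_pow_dvd _).trans (dvd_of_eq X.frame.ordu)))

/-- The multiplicities sum against the block to `-1`. -/
theorem relation (k : ZMod e) {θ : Cfsg.IrrCharacter G} (hθ : θ ∈ X.B.K) :
    ∑ χ, X.c χ * X.frame.mult χ k + X.B.ε * X.frame.mult θ k = -1 := by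
  classical
  refine Int.cast_injective (α := ℂ) (mul_right_cancel₀ (b := (e : ℂ))
    (Nat.cast_ne_zero.2 (NeZero.ne e)) ?_)
  push_cast
  have hexp : ∀ (a : ℂ) (η : Cfsg.IrrCharacter G), a * (X.frame.mult η k : ℂ) * e =
      ∑ l : ZMod e, a * ((p : ℂ)⁻¹ * ∑ i : ZMod p, η.1 (Frame.elt z u (i, l))) *
        conj (ZMod.stdAddChar (k * l)) := fun a η => by
    rw [mul_assoc, X.frame.mult_eq, Finset.mul_sum]
    simp only [mul_assoc]
  rw [add_mul, Finset.sum_mul, hexp, Finset.sum_congr rfl fun χ _ => hexp _ χ, Finset.sum_comm,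
    ← Finset.sum_add_distrib]
  have hterm : ∀ l : ZMod e, ∑ χ : Cfsg.IrrCharacter G, (X.c χ : ℂ) *
        ((p : ℂ)⁻¹ * ∑ i : ZMod p, χ.1 (Frame.elt z u (i, l))) +
      (X.B.ε : ℂ) * ((p : ℂ)⁻¹ * ∑ i : ZMod p, θ.1 (Frame.elt z u (i, l))) =
      if l = 0 then -(e : ℂ) else 0 := by
    intro l
    split_ifs with hl
    · subst hl
      simp only [X.coset_zero]
      refine mul_right_cancel₀ (b := (p : ℂ)) (Nat.cast_ne_zero.2 hp.out.ne_zero) ?_
      rw [add_mul, Finset.sum_mul]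
      simp only [mul_assoc, X.fix, X.sum_z_split]
      rw [X.sum_erase_K hθ, X.B.degK θ hθ]
      have h1 : ∀ χ : Cfsg.IrrCharacter G, (X.c χ : ℂ) * ((Cfsg.charDegree χ.1 : ℂ) +
          ∑ i ∈ Finset.univ.erase (0 : ZMod p), χ.1 (z ^ i.val)) =
          (Cfsg.charDegree χ.1 : ℂ) * (X.c χ : ℂ) - ((p : ℂ) - 1) * ((X.c χ : ℂ) ^ 2) := by
        intro χ
        by_cases hc : X.c χ = 0
        · simp [hc]
        · rw [Finset.sum_congr rfl fun i hi => X.value_z hc (Finset.ne_of_mem_erase hi),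
            Finset.sum_const, nsmul_eq_mul, X.card_erase]
          ring
      rw [Finset.sum_congr rfl fun χ _ => h1 χ, Finset.sum_sub_distrib, ← Finset.mul_sum]
      have hsq : ∑ χ : Cfsg.IrrCharacter G, (X.c χ : ℂ) ^ 2 = e := by
        exact_mod_cast X.B.sq_sum.trans (congrArg (Nat.cast : ℕ → ℤ) X.he)
      have hdeg : ∑ χ : Cfsg.IrrCharacter G, (Cfsg.charDegree χ.1 : ℂ) * (X.c χ : ℂ) +
          (X.B.ε : ℂ) * X.B.D = 0 := by exact_mod_cast X.B.deg_sum
      have hεε : (X.B.ε : ℂ) * X.B.ε = 1 := by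
        rcases X.B.eps with h | h <;> rw [h] <;> norm_num
      rw [hsq]
      linear_combination hdeg - (e : ℂ) * hεε
    · simp only [X.frame.coset_value _ hl]
      have h := X.B.regular _ (X.regular_pow l) θ hθ
      rw [← h]
      congr 1
      exact Finset.sum_congr rfl fun χ _ => mul_comm _ _
  rw [Finset.sum_eq_single_of_mem (0 : ZMod e) (Finset.mem_univ _) fun l _ hl => ?_]
  · rw [mul_zero, AddChar.map_zero_eq_one, map_one]
    simp only [mul_one]
    rw [hterm, if_pos rfl]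
    simp
  · have h := hterm l
    rw [if_neg hl] at h
    rw [← Finset.sum_mul, ← add_mul, h, zero_mul]

theorem mult_K_eq (k : ZMod e) {θ θ' : Cfsg.IrrCharacter G} (hθ : θ ∈ X.B.K) (hθ' : θ' ∈ X.B.K) :
    X.frame.mult θ k = X.frame.mult θ' k := by
  have h := (X.relation k hθ).trans (X.relation k hθ').symm
  rcases X.B.eps with h1 | h1 <;> rw [h1] at h <;> omega

theorem mult_small {χ : Cfsg.IrrCharacter G} (hd : Cfsg.charDegree χ.1 = p - 1)
    (hc : X.c χ = 1) (k : ZMod e) : X.frame.mult χ k = 0 := by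
  have h := X.sum_mult χ
  rw [X.fix_small hd hc] at h
  exact Finset.sum_eq_zero_iff.1 h k (Finset.mem_univ _)

theorem mult_K_pos (hε : X.B.ε = 1) {θ : Cfsg.IrrCharacter G} (hθ : θ ∈ X.B.K) (k : ZMod e) :
    X.frame.mult θ k = 0 := by
  have h := X.sum_mult θ
  rw [X.fix_K_pos hθ hε] at h
  exact Finset.sum_eq_zero_iff.1 h k (Finset.mem_univ _)

/-- The terms of the relation. -/
theorem term_cases (χ : Cfsg.IrrCharacter G) (k : ZMod e) :
    -(X.c χ * X.frame.mult χ k) = 0 ∨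
      (χ = H26.oneIrr G ∨ (Cfsg.charDegree χ.1 = n * p + 1 ∧ X.c χ = -1)) := by
  by_cases hc : X.c χ = 0
  · exact Or.inl (by rw [hc, zero_mul, neg_zero])
  rcases X.shape.supp χ hc with h | h | ⟨h1, h2⟩
  · exact Or.inr (Or.inl h)
  · exact Or.inr (Or.inr h)
  · exact Or.inl (by rw [X.mult_small h1 h2, Nat.cast_zero, mul_zero, neg_zero])

theorem term_nonneg (χ : Cfsg.IrrCharacter G) (k : ZMod e) :
    0 ≤ -(X.c χ * X.frame.mult χ k) := by
  rcases X.term_cases χ k with h | h | h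
  · exact h.ge
  · rw [h, X.c_one]; simp
  · rw [h.2]; simp

theorem mult_zero_of_big {χ : Cfsg.IrrCharacter G} (hd : Cfsg.charDegree χ.1 = n * p + 1)
    (hc : X.c χ = -1) : X.frame.mult χ 0 = 0 := by
  obtain ⟨θ, hθ⟩ := X.exists_K
  have h := X.relation 0 hθ
  have hne : χ ≠ H26.oneIrr G := by
    rintro rfl
    rw [show Cfsg.charDegree (H26.oneIrr G).1 = 1 from
      H26.charDegree_eq (by simp [H26.oneIrr_val])] at hd
    have := Nat.mul_pos X.n_pos hp.out.pos
    omega
  have h2 : -(X.c (H26.oneIrr G) * X.frame.mult (H26.oneIrr G) 0) + -(X.c χ * X.frame.mult χ 0) ≤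
      ∑ η, -(X.c η * X.frame.mult η 0) :=
    Finset.add_le_sum (fun η _ => X.term_nonneg η 0) (Finset.mem_univ _) (Finset.mem_univ _)
      hne.symm
  rw [Finset.sum_neg_distrib, X.frame.mult_one, if_pos rfl, X.c_one, hc] at h2
  push_cast at h2
  rcases X.B.eps with hε | hε
  · rw [hε, X.mult_K_pos hε hθ] at h; push_cast at h; omega
  · rw [hε] at h; omega

theorem mult_K_zero {θ : Cfsg.IrrCharacter G} (hθ : θ ∈ X.B.K) : X.frame.mult θ 0 = 0 := by
  rcases X.B.eps with hε | hε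
  · exact X.mult_K_pos hε hθ 0
  have h := X.relation 0 hθ
  have h2 : -(X.c (H26.oneIrr G) * X.frame.mult (H26.oneIrr G) 0) ≤
      ∑ η, -(X.c η * X.frame.mult η 0) :=
    Finset.single_le_sum (fun η _ => X.term_nonneg η 0) (Finset.mem_univ _)
  rw [Finset.sum_neg_distrib, X.frame.mult_one, if_pos rfl, X.c_one] at h2
  push_cast at h2
  rw [hε] at h
  omega

/-- Every nonzero index occurs in an exceptional or in a large character. -/
theorem exists_ge_one {k : ZMod e} (hk : k ≠ 0) :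
    (∃ χ, Cfsg.charDegree χ.1 = n * p + 1 ∧ X.c χ = -1 ∧ 1 ≤ X.frame.mult χ k) ∨
      (X.B.ε = -1 ∧ ∀ θ ∈ X.B.K, 1 ≤ X.frame.mult θ k) := by
  by_contra hcon
  push Not at hcon
  obtain ⟨h1, h2⟩ := hcon
  obtain ⟨θ, hθ⟩ := X.exists_K
  have h := X.relation k hθ
  have hz : ∀ χ : Cfsg.IrrCharacter G, X.c χ * X.frame.mult χ k = 0 := by
    intro χ
    rcases X.term_cases χ k with h | h | h
    · exact neg_eq_zero.1 h
    · rw [h, X.frame.mult_one, if_neg hk, Nat.cast_zero, mul_zero]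
    · have := h1 χ h.1 h.2
      rw [show X.frame.mult χ k = 0 by omega, Nat.cast_zero, mul_zero]
  rw [Finset.sum_eq_zero fun χ _ => hz χ, zero_add] at h
  rcases X.B.eps with hε | hε
  · rw [X.mult_K_pos hε hθ] at h; simp at h
  · obtain ⟨θ', hθ', hlt⟩ := h2 hε
    rw [X.mult_K_eq k hθ hθ', show X.frame.mult θ' k = 0 by omega] at h
    simp at h

/-- A set of constituents filling the induced character. -/
theorem eq_of_big {k : ZMod e} {T : Finset (Cfsg.IrrCharacter G)}
    [DecidableEq (Cfsg.IrrCharacter G)] (hT : ∀ η ∈ T, 1 ≤ X.frame.mult η k)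
    (hdeg : ∑ η ∈ T, Cfsg.charDegree η.1 = n * p + 1) (η : Cfsg.IrrCharacter G) :
    X.frame.mult η k = if η ∈ T then 1 else 0 := by
  have h := X.frame.sum_mult_deg X.card k
  have hle : ∀ χ ∈ Finset.univ, (if χ ∈ T then Cfsg.charDegree χ.1 else 0) ≤
      X.frame.mult χ k * Cfsg.charDegree χ.1 := fun χ _ => by
    split_ifs with hm
    · exact Nat.le_mul_of_pos_left _ (hT χ hm)
    · exact Nat.zero_le _
  have hsum : ∑ χ : Cfsg.IrrCharacter G, (if χ ∈ T then Cfsg.charDegree χ.1 else 0) =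
      n * p + 1 := by rw [Finset.sum_ite_mem, Finset.univ_inter, hdeg]
  have h2 := (Finset.sum_eq_sum_iff_of_le hle).1 (hsum.trans h.symm) η (Finset.mem_univ _)
  have hd := (irr_degree η).2
  split_ifs with hm
  · rw [if_pos hm] at h2
    exact Nat.eq_of_mul_eq_mul_right hd ((one_mul _).trans h2).symm
  · rw [if_neg hm] at h2
    exact (Nat.mul_eq_zero.1 h2.symm).resolve_right hd.ne'

theorem eq_of_big_one {k : ZMod e} {χ : Cfsg.IrrCharacter G}
    [DecidableEq (Cfsg.IrrCharacter G)] (hd : Cfsg.charDegree χ.1 = n * p + 1)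
    (h1 : 1 ≤ X.frame.mult χ k) (η : Cfsg.IrrCharacter G) :
    X.frame.mult η k = if η = χ then 1 else 0 := by
  have h := X.eq_of_big (T := {χ}) (k := k) (fun η' h => Finset.mem_singleton.1 h ▸ h1)
    (by rw [Finset.sum_singleton, hd]) η
  simp only [Finset.mem_singleton] at h
  exact h

theorem eq_of_big_K {k : ZMod e} [DecidableEq (Cfsg.IrrCharacter G)] (hε : X.B.ε = -1)
    {θ : Cfsg.IrrCharacter G} (hθ : θ ∈ X.B.K) (h1 : 1 ≤ X.frame.mult θ k)
    (η : Cfsg.IrrCharacter G) : X.frame.mult η k = if η ∈ X.B.K then 1 else 0 :=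
  X.eq_of_big (fun η' h => X.mult_K_eq k hθ h ▸ h1)
    (by rw [Finset.sum_congr rfl fun η' h => X.B.degK η' h, Finset.sum_const, X.B.cardK,
      smul_eq_mul, X.D_neg hε]) η

theorem ind_congr {k k' : ZMod e} (h : ∀ η, X.frame.mult η k = X.frame.mult η k') (g : G) :
    ∑ x : G, Frame.lam p z u k (x * g * x⁻¹) = ∑ x : G, Frame.lam p z u k' (x * g * x⁻¹) := by
  rw [← X.frame.induced, ← X.frame.induced]
  simp only [h]

theorem u_eq : u = Frame.elt z u ((0 : ZMod p), (1 : ZMod e)) := by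
  have : Fact (1 < e) := ⟨X.frame.two_le⟩
  simp [Frame.elt, ZMod.val_one]

/-- A conjugate of `u` in the normaliser has odd index when `e` is even. -/
theorem odd_index (he : Even e) {x : G} {y : ZMod p × ZMod e}
    (h : x * u * x⁻¹ = Frame.elt z u y) : Odd y.2.val := by
  have ho : orderOf (Frame.elt z u y) = e := by
    rw [← h]
    exact (orderOf_injective (MulAut.conj x).toMonoidHom (MulAut.conj x).injective u).trans
      X.frame.ordu
  obtain ⟨i, l⟩ := y
  rcases eq_or_ne l 0 with rfl | hl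
  · exfalso
    simp only [Frame.elt, ZMod.val_zero, pow_zero, mul_one] at ho
    have h1 : e ∣ p := ho ▸ (orderOf_pow_dvd _).trans (dvd_of_eq X.frame.ordz)
    rcases (Nat.dvd_prime hp.out).1 h1 with h2 | h2
    · exact absurd h2 (by have := X.frame.two_le; omega)
    · exact X.frame.ndvd (dvd_of_eq h2.symm)
  · obtain ⟨j, hj⟩ := X.frame.exists_conj_pow i hl
    rw [← hj] at ho
    have h1 : orderOf (u ^ l.val) = e :=
      (orderOf_injective (MulAut.conj (z ^ j)).toMonoidHom (MulAut.conj (z ^ j)).injective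
        _).symm.trans ho
    rw [orderOf_pow' u (fun h => hl ((ZMod.val_eq_zero l).1 h)), X.frame.ordu,
      Nat.div_eq_self] at h1
    have hg := h1.resolve_left (NeZero.ne e)
    rw [← Nat.not_even_iff_odd]
    intro hev
    have : 2 ∣ Nat.gcd e l.val := Nat.dvd_gcd he.two_dvd hev.two_dvd
    rw [hg] at this
    exact absurd this (by decide)

/-- The sign character is determined by its induced character. -/
theorem half_unique (he : Even e) {k : ZMod e}
    (h : ∀ η, X.frame.mult η k = X.frame.mult η (half e)) : k = half e := by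
  classical
  have h2 := X.frame.two_le
  have hs := congrArg Complex.re (X.ind_congr h u)
  rw [Complex.re_sum, Complex.re_sum] at hs
  have hle : ∀ x ∈ (Finset.univ : Finset G), (Frame.lam p z u (half e) (x * u * x⁻¹)).re ≤
      (Frame.lam p z u k (x * u * x⁻¹)).re := by
    intro x _
    by_cases hx : x * u * x⁻¹ ∈ Subgroup.normalizer ((Subgroup.zpowers z : Subgroup G) : Set G)
    · obtain ⟨y, hy⟩ := X.frame.exists_elt hx
      rw [← hy, X.frame.lam_elt, X.frame.lam_elt, std_half_mul h2 he,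
        (X.odd_index he hy.symm).neg_one_pow, Complex.neg_re, Complex.one_re]
      exact neg_le_of_neg_le (by
        have h := Complex.abs_re_le_norm (ZMod.stdAddChar (k * y.2) : ℂ)
        rw [AddChar.norm_apply] at h
        exact (neg_le_abs _).trans h)
    · rw [X.frame.lam_eq_zero _ hx, X.frame.lam_eq_zero _ hx]
  have h1 := (Finset.sum_eq_sum_iff_of_le hle).1 hs.symm 1 (Finset.mem_univ _)
  have : Fact (1 < e) := ⟨h2⟩
  rw [inv_one, mul_one, one_mul] at h1
  nth_rw 2 [X.u_eq] at h1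
  nth_rw 4 [X.u_eq] at h1
  rw [X.frame.lam_elt, X.frame.lam_elt, mul_one, mul_one, std_half h2 he] at h1
  refine ZMod.injective_stdAddChar ?_
  rw [std_half h2 he]
  have hn := AddChar.norm_apply ZMod.stdAddChar k
  have hre : (ZMod.stdAddChar k : ℂ).re = -1 := by simpa using h1.symm
  have hsq := Complex.sq_norm (ZMod.stdAddChar k : ℂ)
  rw [hn, Complex.normSq_apply, hre] at hsq
  refine Complex.ext (by simpa using hre) ?_
  have : (ZMod.stdAddChar k : ℂ).im * (ZMod.stdAddChar k : ℂ).im = 0 := by linarith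
  simpa using mul_self_eq_zero.1 this

end Setting

end Cfsg.Agent.H31.FewSylow
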