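import Mathlib
import Cfsg.Agent.H31.FewSylow.Facts

/-!
The square of an exceptional character when the exceptional sign is positive.
-/

set_option autoImplicit false
set_option linter.unusedSectionVars false

namespace Cfsg.Agent.H31.FewSylow

open Cfsg.Agent.H31.Defect
open scoped ComplexConjugate

variable {G : Type*} [Group G] [Fintype G] {p e n : ℕ} [hp : Fact p.Prime] [NeZero e] {z u : G}

theorem classInner_multiset [DecidableEq (Cfsg.IrrCharacter G)]
    (s : Multiset (Cfsg.IrrCharacter G)) (η : Cfsg.IrrCharacter G) :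
    Cfsg.classInner (s.map fun χ : Cfsg.IrrCharacter G => χ.1).sum η.1 = (s.count η : ℂ) := by
  induction s using Multiset.induction_on with
  | empty => simp [H26.classInner_zero_left]
  | cons a s ih =>
    rw [Multiset.map_cons, Multiset.sum_cons, H26.classInner_add_left, ih, H26.classInner_irr,
      Multiset.count_cons]
    push_cast
    split_ifs with h1 h2 h2
    · ring
    · exact absurd h1.symm h2
    · exact absurd h2.symm h1
    · ring

namespace Setting

variable (X : Setting p e n z u)
include X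

/-- With positive sign and `t ≥ 2`, only `t = 2` and `n = 1` are possible. -/
theorem case_pos (hε : X.B.ε = 1) (ht : 2 ≤ X.B.t) : n = 1 ∧ X.B.t = 2 := by
  classical
  obtain ⟨θ, hθ⟩ := X.exists_K
  have hD : X.B.D = e := by
    rcases X.shape.cases with ⟨-, hD, -⟩ | ⟨h, -⟩
    · rw [hD, X.he]
    · rw [hε] at h; exact absurd h (by decide)
  set ψ : G → ℂ := θ.1 * (H26.conjIrr θ).1 with hψ
  obtain ⟨s, hs⟩ := H26.exists_multiset_of_isCharacter
    (H26.isCharacter_mul (H26.irr_isCharacter θ) (H26.irr_isCharacter (H26.conjIrr θ)))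
  change ψ = _ at hs
  have hcount : s.count (H26.oneIrr G) = 1 := by
    have h1 : Cfsg.classInner ψ (H26.oneIrr G).1 = Cfsg.classInner θ.1 θ.1 := by
      simp [Cfsg.classInner, hψ, H26.oneIrr_val, H26.conjIrr_val]
    rw [H26.classInner_irr, if_pos rfl, hs, classInner_multiset] at h1
    exact_mod_cast h1
  -- the functional
  let w : Cfsg.IrrCharacter G → ℤ := fun η =>
    ((n : ℤ) + 1) * Cfsg.charDegree η.1 - ((n : ℤ) * p + 1) * X.B.m η 0
  let W : (G → ℂ) →+ ℂ :=
    { toFun := fun φ => ((n : ℂ) + 1) * p * φ 1 - ((n : ℂ) * p + 1) * ∑ i : ZMod p, φ (z ^ i.val)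
      map_zero' := by simp
      map_add' := fun a b => by
        simp only [Pi.add_apply, Finset.sum_add_distrib]
        ring }
  have hW : ∀ η : Cfsg.IrrCharacter G, W η.1 = (p : ℂ) * (w η : ℂ) := fun η => by
    simp only [W, AddMonoidHom.coe_mk, ZeroHom.coe_mk]
    rw [← X.fix, (irr_degree η).1]
    simp only [w]
    push_cast
    ring
  have hnn : ∀ η, η ≠ H26.oneIrr G → 0 ≤ w η := by
    intro η hη
    simp only [w]
    by_cases hc : X.c η = 0
    · by_cases hK : η ∈ X.B.K
      · rw [X.fix_K_pos hK hε, Nat.cast_zero, mul_zero, sub_zero]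
        positivity
      · rw [← X.fix_other hK hc]
        push_cast
        have hp2 : (2 : ℤ) ≤ p := by exact_mod_cast hp.out.two_le
        have hfac : ((n : ℤ) + 1) * ((X.B.m η 0 : ℤ) * p) - ((n : ℤ) * p + 1) * X.B.m η 0 =
            (X.B.m η 0 : ℤ) * ((p : ℤ) - 1) := by ring
        rw [hfac]
        exact mul_nonneg (Nat.cast_nonneg _) (by omega)
    · rcases X.shape.supp η hc with h | ⟨h1, h2⟩ | ⟨h1, h2⟩
      · exact absurd h hη
      · rw [h1, X.fix_big h1 h2]; push_cast; linarith
      · rw [X.fix_small h1 h2, Nat.cast_zero, mul_zero, sub_zero]; positivity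
  -- the value of the functional on the square
  have hval : ∀ i : ZMod p, θ.1 (z ^ i.val) = ∑ k ∈ fib X.B.κ θ, (ZMod.stdAddChar (k * i) : ℂ) := by
    intro i
    rcases eq_or_ne i 0 with rfl | hi
    · simp only [ZMod.val_zero, pow_zero, mul_zero, AddChar.map_zero_eq_one, Finset.sum_const,
        nsmul_eq_mul, mul_one]
      rw [X.B.fiber θ hθ, X.he, (irr_degree θ).1, X.B.degK θ hθ, hD]
    · have h := X.B.valK θ hθ i hi 1
      rw [Subgroup.coe_one, mul_one, hε, Int.cast_one, one_mul] at h
      exact h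
  have hWψ : W ψ = (((n : ℂ) + 1) * p * (e * e) - ((n : ℂ) * p + 1) * (p * e)) := by
    simp only [W, AddMonoidHom.coe_mk, ZeroHom.coe_mk]
    have hsum : ∑ i : ZMod p, ψ (z ^ i.val) = (p : ℂ) * e := by
      simp only [hψ, Pi.mul_apply, H26.conjIrr_val, hval, map_sum, Finset.sum_mul, Finset.mul_sum]
      rw [Finset.sum_comm]
      have hk : ∀ k ∈ fib X.B.κ θ, ∑ i : ZMod p, ∑ k' ∈ fib X.B.κ θ,
          (ZMod.stdAddChar (k' * i) : ℂ) * conj (ZMod.stdAddChar (k * i)) = p := by
        intro k hk
        rw [Finset.sum_comm]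
        simp only [sum_std_conj]
        rw [Finset.sum_ite_eq', if_pos hk]
      rw [Finset.sum_congr rfl hk, Finset.sum_const, X.B.fiber θ hθ, X.he, nsmul_eq_mul, mul_comm]
    rw [hsum, hψ, Pi.mul_apply, H26.conjIrr_val, (irr_degree θ).1, Complex.conj_natCast,
      X.B.degK θ hθ, hD]
  have hWs : W ψ = (p : ℂ) * (((s.map w).sum : ℤ) : ℂ) := by
    rw [hs, map_multiset_sum, Multiset.map_map]
    have key : ∀ t : Multiset (Cfsg.IrrCharacter G),
        (t.map (fun η => W η.1)).sum = (p : ℂ) * (((t.map w).sum : ℤ) : ℂ) := by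
      intro t
      induction t using Multiset.induction_on with
      | empty => simp
      | cons a t ih =>
        rw [Multiset.map_cons, Multiset.map_cons, Multiset.sum_cons, Multiset.sum_cons, ih, hW,
          Int.cast_add, mul_add]
    exact key s
  have hge : w (H26.oneIrr G) ≤ (s.map w).sum := by
    obtain ⟨s', rfl⟩ := Multiset.exists_cons_of_mem
      (Multiset.count_pos.1 (show 0 < s.count (H26.oneIrr G) by omega))
    rw [Multiset.count_cons_self] at hcount
    rw [Multiset.map_cons, Multiset.sum_cons]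
    refine le_add_of_nonneg_right (Multiset.sum_nonneg fun x hx => ?_)
    obtain ⟨η, hη, rfl⟩ := Multiset.mem_map.1 hx
    refine hnn η fun h => ?_
    rw [h] at hη
    have := Multiset.count_pos.2 hη
    omega
  have heq : (s.map w).sum = ((n : ℤ) + 1) * (e * e) - ((n : ℤ) * p + 1) * e := by
    refine Int.cast_injective (α := ℂ) (mul_left_cancel₀ (a := (p : ℂ))
      (Nat.cast_ne_zero.2 hp.out.ne_zero) ?_)
    rw [← hWs, hWψ]
    push_cast
    ring
  have hone : w (H26.oneIrr G) = (n : ℤ) - n * p := by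
    simp only [w]
    rw [show Cfsg.charDegree (H26.oneIrr G).1 = 1 from
      H26.charDegree_eq (by simp [H26.oneIrr_val]), X.B.m_one, if_pos rfl]
    push_cast
    ring
  rw [heq, hone] at hge
  have het : (e : ℤ) * X.B.t + 1 = p := by exact_mod_cast X.et
  have he2 : (2 : ℤ) ≤ e := by exact_mod_cast X.frame.two_le
  have h1 : (n : ℤ) * ((X.B.t : ℤ) - 1) * ((e : ℤ) - 1) ≤ 1 * ((e : ℤ) - 1) := by
    rw [← het] at hge
    nlinarith [hge]
  have h2 := le_of_mul_le_mul_right h1 (by omega)
  have hn := X.n_pos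
  have h3 : (n : ℤ) * 1 ≤ (n : ℤ) * ((X.B.t : ℤ) - 1) :=
    mul_le_mul_of_nonneg_left (by omega) (by positivity)
  have hn1 : n = 1 := by omega
  subst hn1
  omega

end Setting

end Cfsg.Agent.H31.FewSylow
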