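import Mathlib
import Cfsg.Agent.H31.FewSylow.CaseA

/-!
The case division on the parity of the order of the complement.
-/

set_option autoImplicit false
set_option linter.unusedSectionVars false

namespace Cfsg.Agent.H31.FewSylow

open Cfsg.Agent.H31.Defect
open scoped ComplexConjugate

variable {G : Type*} [Group G] [Fintype G] {p e n : ℕ} [hp : Fact p.Prime] [NeZero e] {z u : G}

theorem charDegree_conjIrr (χ : Cfsg.IrrCharacter G) :
    Cfsg.charDegree (H26.conjIrr χ).1 = Cfsg.charDegree χ.1 :=
  H26.charDegree_eq (by rw [H26.conjIrr_val, (irr_degree χ).1, Complex.conj_natCast])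

namespace Setting

variable (X : Setting p e n z u)
include X

theorem regular_eq {g : G} (hg : ¬ p ∣ orderOf g) {θ θ' : Cfsg.IrrCharacter G} (hθ : θ ∈ X.B.K)
    (hθ' : θ' ∈ X.B.K) : θ.1 g = θ'.1 g := by
  have h := (X.B.regular g hg θ hθ).trans (X.B.regular g hg θ' hθ').symm
  rcases X.B.eps with h1 | h1 <;> rw [h1] at h <;> push_cast at h <;>
    first | linear_combination h | linear_combination -h

/-- For even `e` the sign is negative and only the sign character occurs in an exceptional one. -/
theorem even_case (he : Even e) : X.B.ε = -1 ∧ n + 1 = X.B.t ∧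
    ∀ θ ∈ X.B.K, ∀ k : ZMod e, X.frame.mult θ k = if k = half e then 1 else 0 := by
  classical
  rcases X.exists_ge_one (half_ne_zero X.frame.two_le) with ⟨χ, hd, hc, h1⟩ | ⟨hε, h1⟩
  · exfalso
    have hne : ∀ k : ZMod e, k ≠ half e → X.frame.mult χ k = 0 := by
      intro k hk
      by_contra h0
      refine hk (X.half_unique he fun η => ?_)
      rw [X.eq_of_big_one hd (Nat.pos_of_ne_zero h0) η, X.eq_of_big_one hd h1 η]
    have h := X.sum_mult χ
    rw [Finset.sum_eq_single_of_mem (half e) (Finset.mem_univ _) fun k _ hk => hne k hk,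
      X.eq_of_big_one hd h1 χ, if_pos rfl, X.fix_big hd hc] at h
    have := X.n_pos
    omega
  · have hall : ∀ θ ∈ X.B.K, ∀ k : ZMod e,
        X.frame.mult θ k = if k = half e then 1 else 0 := by
      intro θ hθ k
      split_ifs with hk
      · rw [hk, X.eq_of_big_K hε hθ (h1 θ hθ) θ, if_pos hθ]
      · by_contra h0
        refine hk (X.half_unique he fun η => ?_)
        rw [X.eq_of_big_K hε hθ (Nat.pos_of_ne_zero h0) η, X.eq_of_big_K hε hθ (h1 θ hθ) η]
    refine ⟨hε, ?_, hall⟩
    obtain ⟨θ, hθ⟩ := X.exists_K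
    have h := X.sum_mult θ
    rw [Finset.sum_congr rfl fun k _ => hall θ hθ k, Finset.sum_ite_eq',
      if_pos (Finset.mem_univ _)] at h
    have h2 := X.fix_K_neg hθ hε
    rw [← h, one_mul] at h2
    exact h2.symm

theorem two_le_t_of_odd (he : ¬ Even e) : 2 ≤ X.B.t := by
  have h1 := X.et
  have h2 := X.t_pos
  by_contra hlt
  obtain rfl | hodd := hp.out.eq_two_or_odd'
  · have := X.three_le; omega
  · rw [show X.B.t = 1 by omega, mul_one] at h1
    rw [← h1, Nat.odd_add_one] at hodd
    exact hodd (Nat.not_even_iff_odd.1 he)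

theorem odd_not_neg (he : ¬ Even e) : X.B.ε ≠ -1 := by
  classical
  intro hε
  obtain ⟨θ, hθ⟩ := X.exists_K
  have het := X.et
  have hp3 := X.three_le
  have hpo : Odd p := hp.out.odd_of_ne_two (by omega)
  have heo : Odd e := Nat.not_even_iff_odd.1 he
  have hte : Even X.B.t := by
    rw [← het, Nat.odd_add_one, Nat.not_odd_iff_even, Nat.even_mul] at hpo
    exact hpo.resolve_left he
  have hq := X.fix_K_neg hθ hε
  obtain ⟨k, hk⟩ : ∃ k, 1 ≤ X.frame.mult θ k := by
    by_contra hcon
    push Not at hcon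
    have h := X.sum_mult θ
    rw [Finset.sum_eq_zero fun k _ => show X.frame.mult θ k = 0 by have := hcon k; omega] at h
    rw [← h, zero_mul] at hq
    omega
  -- an exceptional character vanishes at an involution
  have hdvd : 2 ∣ Nat.card G := by
    rw [X.card, ← X.D_neg hε]
    exact dvd_mul_of_dvd_right (dvd_mul_of_dvd_left hte.two_dvd _) _
  obtain ⟨τ, hτ⟩ := exists_prime_orderOf_dvd_card' 2 hdvd
  have hτ0 : θ.1 τ = 0 := by
    have h := X.frame.induced k τ
    rw [Finset.sum_eq_zero (s := (Finset.univ : Finset G)) fun x _ => X.frame.lam_eq_zero k ?_] at h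
    · have h2 := (mul_eq_zero.1 h).resolve_right X.frame.cast_pe_ne_zero
      have hr : ¬ p ∣ orderOf τ := fun hd => by
        rw [hτ] at hd; have := Nat.le_of_dvd two_pos hd; omega
      rw [Finset.sum_congr rfl fun η _ => by rw [X.eq_of_big_K hε hθ hk η]] at h2
      simp only [Nat.cast_ite, Nat.cast_one, Nat.cast_zero, ite_mul, one_mul, zero_mul,
        Finset.sum_ite_mem, Finset.univ_inter] at h2
      rw [Finset.sum_congr rfl fun η hη => X.regular_eq hr hη hθ, Finset.sum_const, X.B.cardK,
        nsmul_eq_mul, mul_eq_zero] at h2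
      exact h2.resolve_left (Nat.cast_ne_zero.2 (by have := X.t_pos; omega))
    · intro hx
      have h1 := orderOf_dvd_natCard (⟨_, hx⟩ : Subgroup.normalizer
        ((Subgroup.zpowers z : Subgroup G) : Set G))
      rw [Subgroup.orderOf_mk, X.frame.cardN, show orderOf (x * τ * x⁻¹) = 2 from
        (orderOf_injective (MulAut.conj x).toMonoidHom (MulAut.conj x).injective τ).trans hτ] at h1
      exact Nat.not_even_iff_odd.2 (hpo.mul heo) (even_iff_two_dvd.2 h1)
  have hDe : Even X.B.D := by
    obtain ⟨r, hr⟩ := mult_cyclic θ (m := 2) (g := τ) (by rw [← hτ, pow_orderOf_eq_one]) 0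
    simp only [zero_mul, AddChar.map_zero_eq_one, map_one, mul_one] at hr
    rw [show (∑ l : ZMod 2, θ.1 (τ ^ l.val)) = θ.1 (τ ^ (0 : ZMod 2).val) + θ.1 (τ ^ (1 : ZMod 2).val)
      from Fin.sum_univ_two _] at hr
    rw [ZMod.val_zero, pow_zero, ZMod.val_one, pow_one, hτ0, add_zero, (irr_degree θ).1,
      X.B.degK θ hθ] at hr
    exact ⟨r, by have : r * 2 = X.B.D := by exact_mod_cast hr
                 omega⟩
  have hqodd : Odd (X.B.m θ 0) := by
    have h := X.fix_K hθ
    rw [hε] at h
    have h' : X.B.m θ 0 * p = X.B.D + e := by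
      have : ((X.B.m θ 0 : ℤ)) * p = X.B.D + e := by rw [h]; ring
      exact_mod_cast this
    exact (Nat.odd_mul.1 (h' ▸ hDe.add_odd heo)).1
  -- the indices occurring in `θ` are closed under negation
  set Λ := Finset.univ.filter fun j : ZMod e => 1 ≤ X.frame.mult θ j with hΛ
  have hone : ∀ j ∈ Λ, X.frame.mult θ j = 1 := fun j hj => by
    rw [X.eq_of_big_K hε hθ (Finset.mem_filter.1 hj).2 θ, if_pos hθ]
  have hcard : Λ.card = X.B.m θ 0 := by
    rw [← X.sum_mult θ, ← Finset.sum_subset (Finset.subset_univ Λ) fun j _ hj => ?_,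
      Finset.sum_congr rfl hone, Finset.sum_const, smul_eq_mul, mul_one]
    simp only [hΛ, Finset.mem_filter, Finset.mem_univ, true_and, not_le, Nat.lt_one_iff] at hj
    exact hj
  have hneg : ∀ j ∈ Λ, -j ∈ Λ := by
    intro j hj
    have hj1 := (Finset.mem_filter.1 hj).2
    have hj0 : j ≠ 0 := by
      rintro rfl
      rw [X.mult_K_zero hθ] at hj1
      exact absurd hj1 (by decide)
    refine Finset.mem_filter.2 ⟨Finset.mem_univ _, ?_⟩
    rcases X.exists_ge_one (neg_ne_zero.2 hj0) with ⟨χ, hd, -, h1⟩ | ⟨-, h1⟩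
    · exfalso
      rw [← X.frame.mult_conjIrr, X.eq_of_big_K hε hθ hj1] at h1
      by_cases hm : H26.conjIrr χ ∈ X.B.K
      · have h2 := X.B.degK _ hm
        rw [charDegree_conjIrr, hd, ← X.D_neg hε] at h2
        have h3 := X.two_le_t_of_odd he
        have h4 : 2 * X.B.D ≤ X.B.t * X.B.D := Nat.mul_le_mul_right _ h3
        have := X.B.D_pos
        omega
      · rw [if_neg hm] at h1
        exact absurd h1 (by decide)
    · exact h1 θ hθ
  have hsum : ∑ j ∈ Λ, (1 : ZMod 2) = 0 := by
    refine Finset.sum_involution (fun j _ => -j) (fun j _ => by decide) (fun j hj _ heq => ?_)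
      (fun j hj => hneg j hj) fun j _ => neg_neg j
    have hj0 : j ≠ 0 := by
      rintro rfl
      have := hone 0 hj
      rw [X.mult_K_zero hθ] at this
      exact absurd this (by decide)
    refine he (eq_half_of_add_self ?_ hj0).2
    calc j + j = -j + j := by rw [heq]
      _ = 0 := neg_add_cancel j
  rw [Finset.sum_const, nsmul_eq_mul, mul_one, ZMod.natCast_eq_zero_iff_even, hcard] at hsum
  exact Nat.not_even_iff_odd.2 hqodd hsum

/-- For odd `e` there are `p + 1` Sylow subgroups and `e = (p - 1) / 2`. -/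
theorem odd_case (he : ¬ Even e) : n = 1 ∧ X.B.t = 2 :=
  X.case_pos (X.B.eps.resolve_right (X.odd_not_neg he)) (X.two_le_t_of_odd he)

end Setting

end Cfsg.Agent.H31.FewSylow
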