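import Mathlib
import Cfsg.Agent.H31.FewSylow.Cases

/-!
The case `t ≥ 3`: then `t` is a power of two and the complement has order two.
-/

set_option autoImplicit false
set_option linter.unusedSectionVars false

namespace Cfsg.Agent.H31.FewSylow

open Cfsg.Agent.H31.Defect
open scoped ComplexConjugate

variable {G : Type*} [Group G] [Fintype G]

/-- The sum of a partial linear character is a nonnegative integer. -/
theorem sum_partial_hom (g : G → ℂ) (h : ∀ a b, g b ≠ 0 → g (a * b) = g a * g b) :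
    ∑ a, g a = 0 ∨ ((∀ a, g a = 0 ∨ g a = 1) ∧
      ∃ N : ℕ, ∑ a, g a = N ∧ ∀ a, g a ≠ 0 → 1 ≤ N) := by
  classical
  by_cases hall : ∀ a, g a = 0 ∨ g a = 1
  · refine Or.inr ⟨hall, (Finset.univ.filter fun a => g a = 1).card, ?_, fun a ha => ?_⟩
    · rw [Finset.natCast_card_filter]
      refine Finset.sum_congr rfl fun a _ => ?_
      split_ifs with h1
      · exact h1
      · exact (hall a).resolve_right h1
    · exact Finset.card_pos.2 ⟨a, Finset.mem_filter.2
        ⟨Finset.mem_univ _, (hall a).resolve_left ha⟩⟩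
  · left
    push Not at hall
    obtain ⟨b, hb0, hb1⟩ := hall
    have h1 : ∑ a, g a = (∑ a, g a) * g b := by
      rw [Finset.sum_mul]
      conv_lhs => rw [← Equiv.sum_comp (Equiv.mulRight b) g]
      exact Finset.sum_congr rfl fun a _ => h a b hb0
    have h2 : (∑ a, g a) * (g b - 1) = 0 := by linear_combination -h1
    exact (mul_eq_zero.1 h2).resolve_right (sub_ne_zero.2 hb1)

theorem sum_partial_hom_re (g : G → ℂ) (h : ∀ a b, g b ≠ 0 → g (a * b) = g a * g b) :
    0 ≤ (∑ a, g a).re := by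
  rcases sum_partial_hom g h with h1 | ⟨-, N, h1, -⟩ <;> rw [h1] <;> simp

variable {p e n : ℕ} [hp : Fact p.Prime] [NeZero e] {z u : G}

/-- The data of the case. -/
structure Big (X : Setting p e n z u) : Prop where
  even : Even e
  neg : X.B.ε = -1
  n_eq : n + 1 = X.B.t
  mult : ∀ θ ∈ X.B.K, ∀ k : ZMod e, X.frame.mult θ k = if k = half e then 1 else 0
  three : 3 ≤ X.B.t

namespace Big

variable {X : Setting p e n z u} (hX : Big X)
include hX

theorem theta_pow {θ : Cfsg.IrrCharacter G} (hθ : θ ∈ X.B.K) {l : ZMod e} (hl : l ≠ 0) :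
    θ.1 (u ^ l.val) = (-1) ^ l.val := by
  rw [X.frame.value_eq θ hl, Finset.sum_congr rfl fun k _ => by rw [hX.mult θ hθ k]]
  simp only [Nat.cast_ite, Nat.cast_one, Nat.cast_zero, ite_mul, one_mul, zero_mul,
    Finset.sum_ite_eq', Finset.mem_univ, if_true]
  exact std_half_mul X.frame.two_le hX.even l

theorem D_eq : X.B.D + e = p := by
  obtain ⟨θ, hθ⟩ := X.exists_K
  have h := X.fix_K hθ
  have h1 : X.B.m θ 0 = 1 := by
    rw [← X.sum_mult θ, Finset.sum_congr rfl fun k _ => hX.mult θ hθ k, Finset.sum_ite_eq',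
      if_pos (Finset.mem_univ _)]
  rw [h1, hX.neg] at h
  push_cast at h
  omega

theorem t_lt : X.B.t < p := by
  have h1 := X.et
  have h2 : 2 * X.B.t ≤ e * X.B.t := Nat.mul_le_mul_right _ X.frame.two_le
  omega

theorem odd_D : ¬ Even X.B.D := fun h => by
  have h1 : Even p := hX.D_eq ▸ h.add hX.even
  have := X.three_le
  have := (Nat.prime_dvd_prime_iff_eq Nat.prime_two hp.out).1 h1.two_dvd
  omega

theorem e_eq : ∃ a : ℕ, e = a * X.B.t + 2 := by
  rcases X.shape.cases with ⟨h, -⟩ | ⟨-, -, a, k, hk, he⟩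
  · rw [hX.neg] at h; exact absurd h (by decide)
  · refine ⟨a, ?_⟩
    rw [← hX.n_eq] at hk ⊢
    have hk1 : k = 1 := Nat.eq_of_mul_eq_mul_right (Nat.succ_pos n) (hk.trans (one_mul _).symm)
    rw [X.he, hk1] at he
    omega

/-- The exceptional characters vanish at regular elements missing the normaliser. -/
theorem theta_zero {g : G} (hr : ¬ p ∣ orderOf g)
    (hg : ∀ x : G, x * g * x⁻¹ ∉ Subgroup.normalizer ((Subgroup.zpowers z : Subgroup G) : Set G))
    {θ : Cfsg.IrrCharacter G} (hθ : θ ∈ X.B.K) : θ.1 g = 0 := by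
  classical
  have h := X.frame.induced (half e) g
  rw [Finset.sum_eq_zero (s := (Finset.univ : Finset G)) fun x _ =>
    X.frame.lam_eq_zero (half e) (hg x)] at h
  have h2 := (mul_eq_zero.1 h).resolve_right X.frame.cast_pe_ne_zero
  have h1 : 1 ≤ X.frame.mult θ (half e) := by rw [hX.mult θ hθ, if_pos rfl]
  rw [Finset.sum_congr rfl fun η _ => by rw [X.eq_of_big_K hX.neg hθ h1 η]] at h2
  simp only [Nat.cast_ite, Nat.cast_one, Nat.cast_zero, ite_mul, one_mul, zero_mul,
    Finset.sum_ite_mem, Finset.univ_inter] at h2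
  rw [Finset.sum_congr rfl fun η hη => X.regular_eq hr hη hθ, Finset.sum_const, X.B.cardK,
    nsmul_eq_mul, mul_eq_zero] at h2
  exact h2.resolve_left (Nat.cast_ne_zero.2 (by have := X.t_pos; omega))

theorem not_mem_of_order {g : G} (h : ¬ orderOf g ∣ p * e) (x : G) :
    x * g * x⁻¹ ∉ Subgroup.normalizer ((Subgroup.zpowers z : Subgroup G) : Set G) := by
  intro hx
  have h1 := orderOf_dvd_natCard (⟨_, hx⟩ : Subgroup.normalizer
    ((Subgroup.zpowers z : Subgroup G) : Set G))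
  rw [Subgroup.orderOf_mk, X.frame.cardN, show orderOf (x * g * x⁻¹) = orderOf g from
    orderOf_injective (MulAut.conj x).toMonoidHom (MulAut.conj x).injective g] at h1
  exact h h1

theorem t_eq_two_pow : ∃ v : ℕ, X.B.t = 2 ^ v := by
  refine ⟨_, Nat.eq_prime_pow_of_unique_prime_dvd (p := 2) (by have := X.t_pos; omega) fun {r} hr hrt => ?_⟩
  by_contra hne
  have : Fact r.Prime := ⟨hr⟩
  have hrp : r < p := lt_of_le_of_lt (Nat.le_of_dvd (by have := X.t_pos; omega) hrt) hX.t_lt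
  obtain ⟨a, ha⟩ := hX.e_eq
  have hre : ¬ r ∣ e := fun h => by
    rw [ha] at h
    have h2 : r ∣ 2 := (Nat.dvd_add_right (dvd_mul_of_dvd_right hrt a)).1 h
    exact hne ((Nat.prime_dvd_prime_iff_eq hr Nat.prime_two).1 h2)
  have hrG : r ∣ Nat.card G := by
    rw [X.card, ← X.D_neg hX.neg]
    exact dvd_mul_of_dvd_right (dvd_mul_of_dvd_left hrt _) _
  obtain ⟨x, hx⟩ := exists_prime_orderOf_dvd_card' r hrG
  obtain ⟨θ, hθ⟩ := X.exists_K
  have hz : ∀ l : ZMod r, l ≠ 0 → θ.1 (x ^ l.val) = 0 := by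
    intro l hl
    have ho : orderOf (x ^ l.val) = r := by
      have h1 : orderOf (x ^ l.val) ∣ r := (orderOf_pow_dvd _).trans (dvd_of_eq hx)
      rcases (Nat.dvd_prime hr).1 h1 with h | h
      · rw [orderOf_eq_one_iff, ← orderOf_dvd_iff_pow_eq_one, hx] at h
        exact absurd ((ZMod.val_eq_zero l).1 (Nat.eq_zero_of_dvd_of_lt h (ZMod.val_lt l))) hl
      · exact h
    refine hX.theta_zero ?_ (hX.not_mem_of_order ?_) hθ
    · rw [ho]
      intro h
      have := Nat.le_of_dvd hr.pos h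
      omega
    · rw [ho, hr.dvd_mul]
      rintro (h | h)
      · have := (Nat.prime_dvd_prime_iff_eq hr hp.out).1 h; omega
      · exact hre h
  obtain ⟨c, hc⟩ := mult_cyclic θ (m := r) (g := x) (by rw [← hx, pow_orderOf_eq_one]) 0
  rw [Finset.sum_eq_single_of_mem (0 : ZMod r) (Finset.mem_univ _)
    fun l _ hl => by rw [hz l hl, zero_mul]] at hc
  rw [ZMod.val_zero, pow_zero, mul_zero, AddChar.map_zero_eq_one, map_one, mul_one,
    (irr_degree θ).1, X.B.degK θ hθ] at hc
  have hrD : r ∣ X.B.D := ⟨c, by rw [mul_comm]; exact_mod_cast hc.symm⟩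
  obtain ⟨b, hb⟩ := hrt
  have h1 : X.B.D + e = e * X.B.t + 1 := by rw [hX.D_eq, X.et]
  obtain ⟨d, hd⟩ := hrD
  have h2 : (r : ℤ) ∣ 1 := by
    refine ⟨(e : ℤ) * b - (a : ℤ) * b - d, ?_⟩
    have h3 : (X.B.D : ℤ) + e = (e : ℤ) * X.B.t + 1 := by exact_mod_cast h1
    have h4 : (e : ℤ) = (a : ℤ) * X.B.t + 2 := by exact_mod_cast ha
    rw [hd, hb] at h3
    rw [hb] at h4
    push_cast at h3 h4
    linear_combination h3 - h4
  exact hr.not_dvd_one (Int.natCast_dvd_natCast.1 (by exact_mod_cast h2))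

theorem four_dvd_t : 4 ∣ X.B.t := by
  obtain ⟨v, hv⟩ := hX.t_eq_two_pow
  have h3 := hX.three
  rw [hv] at h3 ⊢
  match v, h3 with
  | 0, h3 => simp at h3
  | 1, h3 => simp at h3
  | w + 2, _ => exact ⟨2 ^ w, by ring⟩

theorem e_mod_four : e % 4 = 2 := by
  obtain ⟨a, ha⟩ := hX.e_eq
  obtain ⟨b, hb⟩ := hX.four_dvd_t
  rw [hb, show a * (4 * b) = 4 * (a * b) by ring] at ha
  omega

/-- All involutions are conjugate. -/
theorem involution_conj {τ : G} (hτ : orderOf τ = 2) :
    ∃ x : G, x * τ * x⁻¹ = u ^ (half e).val := by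
  obtain ⟨θ, hθ⟩ := X.exists_K
  by_cases hex : ∃ x : G, x * τ * x⁻¹ ∈
      Subgroup.normalizer ((Subgroup.zpowers z : Subgroup G) : Set G)
  · obtain ⟨x, hx⟩ := hex
    obtain ⟨⟨i, l⟩, hy⟩ := X.frame.exists_elt hx
    have ho : orderOf (Frame.elt z u (i, l)) = 2 := by
      rw [hy]
      exact (orderOf_injective (MulAut.conj x).toMonoidHom (MulAut.conj x).injective τ).trans hτ
    rcases eq_or_ne l 0 with rfl | hl
    · exfalso
      simp only [Frame.elt, ZMod.val_zero, pow_zero, mul_one] at ho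
      have h1 : 2 ∣ p := ho ▸ (orderOf_pow_dvd _).trans (dvd_of_eq X.frame.ordz)
      have := (Nat.prime_dvd_prime_iff_eq Nat.prime_two hp.out).1 h1
      have := X.three_le
      omega
    · obtain ⟨j, hj⟩ := X.frame.exists_conj_pow i hl
      rw [← hj] at ho hy
      have ho' : orderOf (u ^ l.val) = 2 :=
        (orderOf_injective (MulAut.conj (z ^ j)).toMonoidHom (MulAut.conj (z ^ j)).injective
          _).symm.trans ho
      have h2 : (u ^ (l + l).val) = 1 := by
        rw [X.frame.upow_add, ← sq, ← ho', pow_orderOf_eq_one]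
      have h3 : l + l = 0 := by
        rw [← orderOf_dvd_iff_pow_eq_one, X.frame.ordu] at h2
        exact (ZMod.val_eq_zero _).1 (Nat.eq_zero_of_dvd_of_lt h2 (ZMod.val_lt _))
      refine ⟨(z ^ j)⁻¹ * x, ?_⟩
      rw [← (eq_half_of_add_self h3 hl).1, show (z ^ j)⁻¹ * x * τ * ((z ^ j)⁻¹ * x)⁻¹ =
        (z ^ j)⁻¹ * (x * τ * x⁻¹) * z ^ j by group, ← hy]
      group
  · push Not at hex
    exfalso
    refine hX.odd_D ?_
    have h0 := hX.theta_zero (g := τ) (fun hd => by
      rw [hτ] at hd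
      have := Nat.le_of_dvd two_pos hd
      have := X.three_le
      omega) hex hθ
    obtain ⟨r, hr⟩ := mult_cyclic θ (m := 2) (g := τ) (by rw [← hτ, pow_orderOf_eq_one]) 0
    simp only [zero_mul, AddChar.map_zero_eq_one, map_one, mul_one] at hr
    rw [show (∑ l : ZMod 2, θ.1 (τ ^ l.val)) =
      θ.1 (τ ^ (0 : ZMod 2).val) + θ.1 (τ ^ (1 : ZMod 2).val) from Fin.sum_univ_two _,
      ZMod.val_zero, pow_zero, ZMod.val_one, pow_one, h0, add_zero, (irr_degree θ).1,
      X.B.degK θ hθ] at hr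
    have : r * 2 = X.B.D := by exact_mod_cast hr
    exact ⟨r, by omega⟩

theorem no_order_four (x : G) : orderOf x ≠ 4 := by
  intro hx
  obtain ⟨θ, hθ⟩ := X.exists_K
  have h4 := hX.e_mod_four
  have hp3 := X.three_le
  have hnp : ¬ p ∣ 4 := fun h => by
    have h2 : p ∣ 2 * 2 := h
    rcases hp.out.dvd_mul.1 h2 with h' | h' <;>
      (have := Nat.le_of_dvd two_pos h'; omega)
  have hn4 : ¬ 4 ∣ p * e := fun h => by
    have hcop : Nat.Coprime 4 p := by
      rw [Nat.coprime_comm, hp.out.coprime_iff_not_dvd]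
      exact hnp
    have := hcop.dvd_of_dvd_mul_left h
    omega
  have hx1 : θ.1 x = 0 := hX.theta_zero (by rw [hx]; exact hnp)
    (hX.not_mem_of_order (by rw [hx]; exact hn4)) hθ
  have ho3 : orderOf (x ^ 3) = 4 := by
    rw [orderOf_pow' x (by decide), hx]
    rfl
  have hx3 : θ.1 (x ^ 3) = 0 := hX.theta_zero (by rw [ho3]; exact hnp)
    (hX.not_mem_of_order (by rw [ho3]; exact hn4)) hθ
  have ho2 : orderOf (x ^ 2) = 2 := by
    rw [orderOf_pow' x (by decide), hx]
    rfl
  have hx2 : θ.1 (x ^ 2) = -1 := by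
    obtain ⟨g, hg⟩ := hX.involution_conj ho2
    rw [← H26.irr_conj θ (x ^ 2) g, hg, hX.theta_pow hθ (half_ne_zero X.frame.two_le), half_val]
    exact (Nat.odd_iff.2 (by omega)).neg_one_pow
  have hsum : ∀ f : ZMod 4 → ℂ, ∑ l : ZMod 4, f l = f 0 + f 1 + f 2 + f 3 := fun f =>
    Fin.sum_univ_four f
  obtain ⟨r, hr⟩ := mult_cyclic θ (m := 4) (g := x) (by rw [← hx, pow_orderOf_eq_one]) 0
  obtain ⟨s, hs⟩ := mult_cyclic θ (m := 4) (g := x) (by rw [← hx, pow_orderOf_eq_one]) 1
  rw [hsum] at hr hs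
  simp only [zero_mul, mul_zero, one_mul, AddChar.map_zero_eq_one, map_one, mul_one,
    ZMod.val_zero, pow_zero, show (1 : ZMod 4).val = 1 from rfl, show (2 : ZMod 4).val = 2 from rfl,
    show (3 : ZMod 4).val = 3 from rfl, pow_one, hx1, hx2, hx3, (irr_degree θ).1, X.B.degK θ hθ,
    zero_mul, add_zero] at hr hs
  rw [show (2 : ZMod 4) = half 4 from rfl, std_half (by decide) (by decide), map_neg, map_one] at hs
  have h1 : (r : ℤ) * 4 = X.B.D - 1 := by
    refine Int.cast_injective (α := ℂ) ?_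
    push_cast at hr ⊢
    linear_combination hr
  have h2 : (s : ℤ) * 4 = X.B.D + 1 := by
    refine Int.cast_injective (α := ℂ) ?_
    push_cast at hs ⊢
    linear_combination hs
  omega

theorem card_conj_mem : Nat.card {x : G // x * u * x⁻¹ ∈
    Subgroup.normalizer ((Subgroup.zpowers z : Subgroup G) : Set G)} = X.B.t * (p * e) := by
  classical
  obtain ⟨θ, hθ⟩ := X.exists_K
  have : Fact (1 < e) := ⟨X.frame.two_le⟩
  have hu : θ.1 u = -1 := by
    have h := hX.theta_pow hθ (one_ne_zero : (1 : ZMod e) ≠ 0)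
    rwa [ZMod.val_one, pow_one, pow_one] at h
  have h := X.frame.induced (half e) u
  have h1 : 1 ≤ X.frame.mult θ (half e) := by rw [hX.mult θ hθ, if_pos rfl]
  rw [Finset.sum_congr rfl fun η _ => by rw [X.eq_of_big_K hX.neg hθ h1 η]] at h
  simp only [Nat.cast_ite, Nat.cast_one, Nat.cast_zero, ite_mul, one_mul, zero_mul,
    Finset.sum_ite_mem, Finset.univ_inter] at h
  have hr : ¬ p ∣ orderOf u := by rw [X.frame.ordu]; exact X.frame.ndvd
  rw [Finset.sum_congr rfl fun η hη => X.regular_eq hr hη hθ, Finset.sum_const, X.B.cardK,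
    nsmul_eq_mul, hu] at h
  have hterm : ∀ x ∈ (Finset.univ : Finset G), Frame.lam p z u (half e) (x * u * x⁻¹) =
      -if x * u * x⁻¹ ∈ Subgroup.normalizer ((Subgroup.zpowers z : Subgroup G) : Set G) then (1 : ℂ)
        else 0 := by
    intro x _
    split_ifs with hx
    · obtain ⟨y, hy⟩ := X.frame.exists_elt hx
      rw [← hy, X.frame.lam_elt, std_half_mul X.frame.two_le hX.even,
        (X.odd_index hX.even hy.symm).neg_one_pow]
    · rw [X.frame.lam_eq_zero _ hx, neg_zero]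
  rw [Finset.sum_congr rfl hterm, Finset.sum_neg_distrib, Finset.sum_boole] at h
  rw [Nat.card_eq_fintype_card, Fintype.card_subtype]
  refine Nat.cast_injective (R := ℂ) ?_
  push_cast
  push_cast at h
  linear_combination h

theorem mem_U {g : G}
    (hN : g ∈ Subgroup.normalizer ((Subgroup.zpowers z : Subgroup G) : Set G))
    (hM : g ∈ Subgroup.normalizer ((Subgroup.zpowers u : Subgroup G) : Set G)) :
    g ∈ Subgroup.zpowers u := by
  obtain ⟨⟨i, l⟩, rfl⟩ := X.frame.exists_elt hN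
  simp only [Frame.elt] at hM ⊢
  have hul : u ^ l.val ∈ Subgroup.zpowers u := Subgroup.pow_mem _ (Subgroup.mem_zpowers u) _
  have hz : z ^ i.val ∈ Subgroup.normalizer ((Subgroup.zpowers u : Subgroup G) : Set G) := by
    have := Subgroup.mul_mem _ hM (Subgroup.inv_mem _ (Subgroup.le_normalizer hul))
    rwa [mul_inv_cancel_right] at this
  suffices hi : i = 0 by rw [hi, ZMod.val_zero, pow_zero, one_mul]; exact hul
  by_contra hi
  have h1 : z ^ i.val * u * (z ^ i.val)⁻¹ ∈ Subgroup.zpowers u :=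
    (Subgroup.mem_normalizer_iff.1 hz u).1 (Subgroup.mem_zpowers u)
  obtain ⟨j, hj⟩ := (mem_powers_iff_mem_zpowers).2 h1
  have h2 : z ^ i.val * u * (z ^ i.val)⁻¹ * u⁻¹ ∈ Subgroup.zpowers z := by
    rw [show z ^ i.val * u * (z ^ i.val)⁻¹ * u⁻¹ = z ^ i.val * (u * (z ^ i.val)⁻¹ * u⁻¹) by group]
    exact Subgroup.mul_mem _ (Subgroup.pow_mem _ (Subgroup.mem_zpowers z) _)
      ((Subgroup.mem_normalizer_iff.1 X.frame.mem _).1
        (Subgroup.inv_mem _ (Subgroup.pow_mem _ (Subgroup.mem_zpowers z) _)))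
  have h3 : z ^ i.val * u * (z ^ i.val)⁻¹ * u⁻¹ ∈ Subgroup.zpowers u :=
    Subgroup.mul_mem _ h1 (Subgroup.inv_mem _ (Subgroup.mem_zpowers u))
  have h4 : z ^ i.val * u * (z ^ i.val)⁻¹ * u⁻¹ = 1 := by
    obtain ⟨m, hm⟩ := (mem_powers_iff_mem_zpowers).2 h3
    have h5 : orderOf (z ^ i.val * u * (z ^ i.val)⁻¹ * u⁻¹) ∣ p := by
      have h' := orderOf_dvd_natCard (⟨_, h2⟩ : Subgroup.zpowers z)
      rwa [Nat.card_zpowers, X.frame.ordz, Subgroup.orderOf_mk] at h'
    rcases (Nat.dvd_prime hp.out).1 h5 with h6 | h6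
    · exact orderOf_eq_one_iff.1 h6
    · have h' := orderOf_dvd_natCard (⟨_, h3⟩ : Subgroup.zpowers u)
      rw [Nat.card_zpowers, X.frame.ordu, Subgroup.orderOf_mk, h6] at h'
      exact absurd h' X.frame.ndvd
  have : Fact (1 < e) := ⟨X.frame.two_le⟩
  refine (one_ne_zero : (1 : ZMod e) ≠ 0) (X.frame.pow_mem_zpowers ?_)
  rw [ZMod.val_one, pow_one, ← X.frame.cent, Subgroup.mem_centralizer_singleton_iff]
  have h7 : Commute (z ^ i.val) u := mul_inv_eq_iff_eq_mul.1 (mul_inv_eq_one.1 h4)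
  have h8 := (h7.pow_left (i⁻¹).val).symm
  rw [pow_val_mul X.frame.ordz, mul_inv_cancel₀ hi, ZMod.val_one, pow_one] at h8
  exact h8.eq

theorem card_normalizer_U :
    Nat.card (Subgroup.normalizer ((Subgroup.zpowers u : Subgroup G) : Set G)) = X.B.t * e := by
  classical
  refine Nat.eq_of_mul_eq_mul_left hp.out.pos ?_
  rw [show p * (X.B.t * e) = X.B.t * (p * e) by ring, ← hX.card_conj_mem,
    ← show Nat.card (Subgroup.zpowers z) = p from by rw [Nat.card_zpowers, X.frame.ordz],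
    ← Nat.card_prod]
  set M := Subgroup.normalizer ((Subgroup.zpowers u : Subgroup G) : Set G) with hMdef
  refine Nat.card_congr (Equiv.ofBijective
    (fun x : Subgroup.zpowers z × M => ⟨x.1.1 * x.2.1, ?_⟩) ⟨?_, ?_⟩)
  · have h1 : (x.2.1 : G) * u * x.2.1⁻¹ ∈ Subgroup.zpowers u :=
      (Subgroup.mem_normalizer_iff.1 x.2.2 u).1 (Subgroup.mem_zpowers u)
    have h2 : (x.2.1 : G) * u * x.2.1⁻¹ ∈
        Subgroup.normalizer ((Subgroup.zpowers z : Subgroup G) : Set G) :=
      (Subgroup.zpowers_le.2 X.frame.mem) h1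
    rw [show (x.1.1 : G) * x.2.1 * u * (x.1.1 * x.2.1)⁻¹ =
      x.1.1 * (x.2.1 * u * x.2.1⁻¹) * (x.1.1)⁻¹ by group]
    exact Subgroup.mul_mem _ (Subgroup.mul_mem _ (Subgroup.le_normalizer x.1.2) h2)
      (Subgroup.inv_mem _ (Subgroup.le_normalizer x.1.2))
  · rintro ⟨a, g⟩ ⟨b, h⟩ h0
    have h1 : (a : G) * g = b * h := congrArg Subtype.val h0
    have h2 : (b : G)⁻¹ * a = (h : G) * (g : G)⁻¹ := by
      rw [inv_mul_eq_iff_eq_mul, ← mul_assoc, ← h1, mul_inv_cancel_right]
    have hz : (b : G)⁻¹ * a ∈ Subgroup.zpowers z :=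
      Subgroup.mul_mem _ (Subgroup.inv_mem _ b.2) a.2
    have h3 := hX.mem_U (Subgroup.le_normalizer hz)
      (h2 ▸ Subgroup.mul_mem _ h.2 (Subgroup.inv_mem _ g.2))
    have h4 : (b : G)⁻¹ * a = 1 := by
      have h' := orderOf_dvd_natCard (⟨_, hz⟩ : Subgroup.zpowers z)
      rw [Nat.card_zpowers, X.frame.ordz, Subgroup.orderOf_mk] at h'
      rcases (Nat.dvd_prime hp.out).1 h' with h6 | h6
      · exact orderOf_eq_one_iff.1 h6
      · have h'' := orderOf_dvd_natCard (⟨_, h3⟩ : Subgroup.zpowers u)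
        rw [Nat.card_zpowers, X.frame.ordu, Subgroup.orderOf_mk, h6] at h''
        exact absurd h'' X.frame.ndvd
    rw [h4] at h2
    exact Prod.ext (Subtype.ext (inv_mul_eq_one.1 h4).symm)
      (Subtype.ext (mul_inv_eq_one.1 h2.symm).symm)
  · rintro ⟨x, hx⟩
    obtain ⟨⟨i, l⟩, hy⟩ := X.frame.exists_elt hx
    have hl : l ≠ 0 := fun h0 => by
      have hodd := X.odd_index hX.even hy.symm
      rw [show ((i, l) : ZMod p × ZMod e).2 = l from rfl, h0, ZMod.val_zero] at hodd
      exact Nat.not_odd_zero hodd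
    obtain ⟨j, hj⟩ := X.frame.exists_conj_pow i hl
    rw [← hj] at hy
    have hm : (z ^ j)⁻¹ * x * u * ((z ^ j)⁻¹ * x)⁻¹ = u ^ l.val := by
      rw [show (z ^ j)⁻¹ * x * u * ((z ^ j)⁻¹ * x)⁻¹ = (z ^ j)⁻¹ * (x * u * x⁻¹) * z ^ j by group,
        ← hy]
      group
    refine ⟨⟨⟨z ^ j, Subgroup.pow_mem _ (Subgroup.mem_zpowers z) _⟩, ⟨(z ^ j)⁻¹ * x, ?_⟩⟩,
      Subtype.ext (mul_inv_cancel_left _ _)⟩
    rw [hMdef, Subgroup.mem_normalizer_iff]
    have heq : (Subgroup.zpowers u).map (MulAut.conj ((z ^ j)⁻¹ * x)).toMonoidHom =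
        Subgroup.zpowers u := by
      rw [MonoidHom.map_zpowers]
      refine Subgroup.eq_of_le_of_card_ge (Subgroup.zpowers_le.2 ?_) ?_
      · show (z ^ j)⁻¹ * x * u * ((z ^ j)⁻¹ * x)⁻¹ ∈ _
        rw [hm]
        exact Subgroup.pow_mem _ (Subgroup.mem_zpowers u) _
      · rw [Nat.card_zpowers, Nat.card_zpowers]
        exact (orderOf_injective (MulAut.conj ((z ^ j)⁻¹ * x)).toMonoidHom
          (MulAut.conj ((z ^ j)⁻¹ * x)).injective u).ge
    intro w
    constructor
    · intro hw; rw [← heq]; exact ⟨w, hw, rfl⟩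
    · intro hw
      rw [← heq] at hw
      obtain ⟨y, hy1, hy2⟩ := hw
      exact (MulAut.conj ((z ^ j)⁻¹ * x)).injective hy2 ▸ hy1

theorem upow_mul (a b : ZMod e) : (u ^ a.val) ^ b.val = u ^ (a * b).val := by
  rw [ZMod.val_mul, ← pow_mul]
  conv_lhs => rw [← pow_mod_orderOf, X.frame.ordu]

/-- A linear character fixed by an element normalising the complement is one of the sign type. -/
theorem not_fixed {w : G} (hwN : w ∉ Subgroup.normalizer ((Subgroup.zpowers z : Subgroup G) : Set G))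
    {j k : ZMod e} (hw : w * u * w⁻¹ = u ^ j.val) (hk : k * j = k) (hk0 : k ≠ 0)
    (hkh : k ≠ half e) : False := by
  classical
  set N := Subgroup.normalizer ((Subgroup.zpowers z : Subgroup G) : Set G) with hN
  rcases X.exists_ge_one hk0 with ⟨χ, hd, -, h1⟩ | ⟨-, h1⟩
  swap
  · obtain ⟨θ, hθ⟩ := X.exists_K
    have := h1 θ hθ
    rw [hX.mult θ hθ, if_neg hkh] at this
    exact absurd this (by decide)
  have h := congrArg Complex.re (X.frame.norm_sq k)
  rw [Finset.sum_congr rfl fun η _ => by rw [X.eq_of_big_one hd h1 η], Finset.sum_eq_single_of_mem χ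
    (Finset.mem_univ _) fun η _ hη => by rw [if_neg hη]; simp, if_pos rfl, Nat.cast_one, one_pow,
    one_mul, Complex.re_sum, ← Nat.cast_mul, Complex.natCast_re] at h
  let T : G → G → ℂ := fun x y => conj (Frame.lam p z u k y) * Frame.lam p z u k (x * y * x⁻¹)
  have hT : ∀ x a b, T x b ≠ 0 → T x (a * b) = T x a * T x b := by
    intro x a b hb
    simp only [T] at hb ⊢
    have hb1 : b ∈ N := X.frame.mem_of_lam_ne_zero (k := k) fun h0 => hb (by rw [h0, map_zero, zero_mul])
    have hb2 : x * b * x⁻¹ ∈ N := X.frame.mem_of_lam_ne_zero (k := k) fun h0 => hb (by rw [h0, mul_zero])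
    rw [X.frame.lam_mul k a hb1, show x * (a * b) * x⁻¹ = x * a * x⁻¹ * (x * b * x⁻¹) by group,
      X.frame.lam_mul k _ hb2, map_mul]
    ring
  have hinN : ∀ x ∈ Finset.univ.filter (fun x : G => x ∈ N),
      (∑ y, T x y).re = ((p * e : ℕ) : ℝ) := by
    intro x hx
    have hxN := (Finset.mem_filter.1 hx).2
    have hterm : ∀ y ∈ (Finset.univ : Finset G), T x y = if y ∈ N then (1 : ℂ) else 0 := by
      intro y _
      simp only [T]
      split_ifs with hy
      · obtain ⟨a, rfl⟩ := X.frame.exists_elt hy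
        rw [X.frame.lam_mul k _ (Subgroup.inv_mem _ hxN), X.frame.lam_mul k x hy,
          show conj (Frame.lam p z u k (Frame.elt z u a)) *
            (Frame.lam p z u k x * Frame.lam p z u k (Frame.elt z u a) * Frame.lam p z u k x⁻¹) =
            (conj (Frame.lam p z u k (Frame.elt z u a)) * Frame.lam p z u k (Frame.elt z u a)) *
            (Frame.lam p z u k x * Frame.lam p z u k x⁻¹) by ring,
          ← X.frame.lam_mul k x (Subgroup.inv_mem _ hxN), mul_inv_cancel, X.frame.lam_one,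
          ← X.frame.lam_inv, ← X.frame.lam_mul k _ hy, inv_mul_cancel, X.frame.lam_one, mul_one]
      · rw [X.frame.lam_eq_zero k hy, map_zero, zero_mul]
    rw [Finset.sum_congr rfl hterm, Finset.sum_boole, Complex.natCast_re, ← X.frame.cardN,
      Nat.card_eq_fintype_card, Fintype.card_subtype]
  have hw1 : 1 ≤ (∑ y, T w y).re := by
    have hval : ∀ y, T w y = 0 ∨ T w y = 1 := by
      intro y
      by_cases h0 : T w y = 0
      · exact Or.inl h0
      right
      have hy : y ∈ N := X.frame.mem_of_lam_ne_zero (k := k) fun h' =>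
        h0 (by simp only [T]; rw [h', map_zero, zero_mul])
      have hwy : w * y * w⁻¹ ∈ N := X.frame.mem_of_lam_ne_zero (k := k) fun h' =>
        h0 (by simp only [T]; rw [h', mul_zero])
      obtain ⟨⟨i, l⟩, rfl⟩ := X.frame.exists_elt hy
      have hul : w * u ^ l.val * w⁻¹ = u ^ (j * l).val := by
        rw [← conj_pow, hw, hX.upow_mul]
      have hi : i = 0 := by
        by_contra hi
        refine hwN ?_
        have h2 : w * z ^ i.val * w⁻¹ ∈ N := by
          have h3 := Subgroup.mul_mem _ hwy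
            (Subgroup.inv_mem _ (hul ▸ (Subgroup.pow_mem _ X.frame.mem _) : w * u ^ l.val * w⁻¹ ∈ N))
          rwa [show w * Frame.elt z u (i, l) * w⁻¹ * (w * u ^ l.val * w⁻¹)⁻¹ = w * z ^ i.val * w⁻¹ by
            simp only [Frame.elt]; group] at h3
        have hsq : ¬ p ^ 2 ∣ Nat.card G := by
          rw [X.card, pow_two, mul_assoc]
          intro hd'
          rcases hp.out.dvd_mul.1 (Nat.dvd_of_mul_dvd_mul_left hp.out.pos hd') with h4 | h4
          · exact X.frame.ndvd h4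
          · exact hp.out.not_dvd_one ((Nat.dvd_add_right (dvd_mul_left p n)).1 h4)
        have h3 := mem_zpowers_of_mem_normalizer X.frame.ordz hsq h2 (by
          rw [conj_pow, ← pow_mul, mul_comm, pow_mul,
            orderOf_dvd_iff_pow_eq_one.1 (dvd_of_eq X.frame.ordz), one_pow, mul_one, mul_inv_cancel])
        obtain ⟨s, hs⟩ := (mem_powers_iff_mem_zpowers).2 h3
        refine mem_normalizer_of_conj_eq X.frame.ordz (s := s * (i⁻¹).val) ?_
        calc w * z * w⁻¹ = w * (z ^ i.val) ^ (i⁻¹).val * w⁻¹ := by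
              rw [pow_val_mul X.frame.ordz, mul_inv_cancel₀ hi, ZMod.val_one, pow_one]
          _ = _ := by rw [← conj_pow, ← hs, pow_mul]
      subst hi
      have e1 : Frame.elt z u ((0 : ZMod p), l) = u ^ l.val := by simp [Frame.elt]
      have e2 : u ^ (j * l).val = Frame.elt z u ((0 : ZMod p), j * l) := by simp [Frame.elt]
      simp only [T]
      rw [e1, hul, e2, ← e1, X.frame.lam_elt, X.frame.lam_elt, ← mul_assoc k j, hk, conj_std,
        ← AddChar.map_add_eq_mul, neg_add_cancel, AddChar.map_zero_eq_one]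
    have hone : T w 1 = 1 := by
      simp only [T]
      rw [mul_one, mul_inv_cancel, X.frame.lam_one, map_one, one_mul]
    rw [Complex.re_sum]
    calc (1 : ℝ) = (T w 1).re := by rw [hone, Complex.one_re]
      _ ≤ _ := Finset.single_le_sum (f := fun y => (T w y).re) (fun y _ => by
        rcases hval y with h0 | h0 <;> simp [h0]) (Finset.mem_univ _)
  have hNcard : ((Finset.univ.filter fun x : G => x ∈ N).card : ℝ) = ((p * e : ℕ) : ℝ) := by
    rw [← X.frame.cardN, Nat.card_eq_fintype_card, Fintype.card_subtype]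
  have hge : ((p * e : ℕ) : ℝ) * (p * e : ℕ) + 1 ≤ ∑ x, (∑ y, T x y).re := by
    calc ((p * e : ℕ) : ℝ) * (p * e : ℕ) + 1
        ≤ ∑ x ∈ Finset.univ.filter (fun x : G => x ∈ N), (∑ y, T x y).re + (∑ y, T w y).re := by
          rw [Finset.sum_congr rfl hinN, Finset.sum_const, nsmul_eq_mul, hNcard]
          linarith
      _ = ∑ x ∈ insert w (Finset.univ.filter fun x : G => x ∈ N), (∑ y, T x y).re := by
          rw [Finset.sum_insert (by simp [hwN]), add_comm]
      _ ≤ _ := Finset.sum_le_sum_of_subset_of_nonneg (Finset.subset_univ _)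
          fun x _ _ => sum_partial_hom_re _ (hT x)
  rw [← h] at hge
  push_cast at hge
  linarith

theorem conj_index {w : G}
    (hw : w ∈ Subgroup.normalizer ((Subgroup.zpowers u : Subgroup G) : Set G)) :
    ∃ j : ZMod e, w * u * w⁻¹ = u ^ j.val := by
  obtain ⟨s, hs⟩ := (mem_powers_iff_mem_zpowers).2
    ((Subgroup.mem_normalizer_iff.1 hw u).1 (Subgroup.mem_zpowers u))
  refine ⟨(s : ZMod e), hs.symm.trans ?_⟩
  show u ^ s = _
  rw [ZMod.val_natCast]
  conv_lhs => rw [← pow_mod_orderOf, X.frame.ordu]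

theorem index_inj {a b : ZMod e} (h : u ^ a.val = u ^ b.val) : a = b := by
  apply ZMod.val_injective e
  have := pow_inj_mod.mp h
  rwa [X.frame.ordu, Nat.mod_eq_of_lt (ZMod.val_lt a), Nat.mod_eq_of_lt (ZMod.val_lt b)] at this

theorem index_sq {w : G}
    (hw : w ∈ Subgroup.normalizer ((Subgroup.zpowers u : Subgroup G) : Set G)) {j : ZMod e}
    (hj : w * u * w⁻¹ = u ^ j.val) : j * j = 1 := by
  set M := Subgroup.normalizer ((Subgroup.zpowers u : Subgroup G) : Set G) with hM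
  have : Fact (1 < e) := ⟨X.frame.two_le⟩
  have hle : Subgroup.zpowers u ≤ M := Subgroup.le_normalizer
  have : ((Subgroup.zpowers u).subgroupOf M).Normal := Subgroup.normal_in_normalizer
  have hidx : ((Subgroup.zpowers u).subgroupOf M).index = X.B.t := by
    have h := Subgroup.card_mul_index ((Subgroup.zpowers u).subgroupOf M)
    rw [Nat.card_congr (Subgroup.subgroupOfEquivOfLe hle).toEquiv, Nat.card_zpowers, X.frame.ordu,
      hX.card_normalizer_U, mul_comm X.B.t] at h
    exact Nat.eq_of_mul_eq_mul_left (NeZero.pos e) h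
  have h1 : w ^ X.B.t ∈ Subgroup.zpowers u := by
    have h := Subgroup.pow_index_mem ((Subgroup.zpowers u).subgroupOf M) (⟨w, hw⟩ : M)
    rw [hidx, Subgroup.mem_subgroupOf] at h
    exact h
  have h2 : w ^ e = 1 := by
    rw [← orderOf_dvd_iff_pow_eq_one]
    have hd : orderOf w ∣ X.B.t * e := by
      have h := orderOf_dvd_natCard (⟨w, hw⟩ : M)
      rwa [Subgroup.orderOf_mk, hX.card_normalizer_U] at h
    have h4 : ¬ 4 ∣ orderOf w := fun h4 => by
      obtain ⟨c, hc⟩ := h4
      have hc0 : c ≠ 0 := fun h0 => by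
        rw [h0, mul_zero] at hc; exact (orderOf_pos w).ne' hc
      refine hX.no_order_four (w ^ c) ?_
      rw [orderOf_pow_of_dvd hc0 (hc ▸ dvd_mul_left c 4), hc, Nat.mul_div_cancel _ (by omega)]
    obtain ⟨v, hv⟩ := hX.t_eq_two_pow
    have he2 := hX.e_mod_four
    obtain ⟨h, hh, hho⟩ : ∃ h, e = 2 * h ∧ Odd h := ⟨e / 2, by omega, Nat.odd_iff.2 (by omega)⟩
    rw [hv, hh, show 2 ^ v * (2 * h) = 2 ^ (v + 1) * h by ring] at hd
    obtain ⟨a, b, ha, hb, hab⟩ := exists_dvd_and_dvd_of_dvd_mul hd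
    obtain ⟨w', hw', rfl⟩ := (Nat.dvd_prime_pow Nat.prime_two).1 ha
    rw [hab, hh]
    refine Nat.mul_dvd_mul ?_ hb
    have hw1 : w' ≤ 1 := by
      by_contra hlt
      exact h4 (hab ▸ dvd_mul_of_dvd_left (pow_dvd_pow 2 (by omega : 2 ≤ w')) b)
    exact (pow_dvd_pow 2 hw1).trans (dvd_of_eq (pow_one 2))
  have hgcd : Nat.gcd X.B.t e = 2 := by
    obtain ⟨a, ha⟩ := hX.e_eq
    rw [congrArg (Nat.gcd X.B.t) ha, Nat.gcd_mul_right_add_right]
    obtain ⟨b, hb⟩ := hX.four_dvd_t
    rw [hb, show 4 * b = 2 * (2 * b) by ring, Nat.gcd_mul_right_left]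
  have h3 : w ^ 2 ∈ Subgroup.zpowers u := by
    have hb := Nat.gcd_eq_gcd_ab X.B.t e
    rw [hgcd] at hb
    rw [← zpow_natCast, hb, zpow_add, zpow_mul, zpow_mul, zpow_natCast, zpow_natCast, h2, one_zpow,
      mul_one]
    exact Subgroup.zpow_mem _ h1 _
  obtain ⟨s, hs⟩ := (mem_powers_iff_mem_zpowers).2 h3
  change u ^ s = w ^ 2 at hs
  refine hX.index_inj ?_
  rw [← hX.upow_mul, ← hj, conj_pow, ← hj, ZMod.val_one, pow_one,
    show w * (w * u * w⁻¹) * w⁻¹ = (w * w) * u * (w * w)⁻¹ by group, ← pow_two, ← hs,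
    ((Commute.refl u).pow_left s).eq, mul_inv_cancel_right]

theorem index_neg {w : G}
    (hw : w ∈ Subgroup.normalizer ((Subgroup.zpowers u : Subgroup G) : Set G))
    (hwN : w ∉ Subgroup.normalizer ((Subgroup.zpowers z : Subgroup G) : Set G)) {j : ZMod e}
    (hj : w * u * w⁻¹ = u ^ j.val) : j = -1 := by
  by_contra hne
  have hsq := hX.index_sq hw hj
  refine hX.not_fixed hwN hj (k := j + 1) ?_ ?_ ?_
  · rw [add_mul, one_mul, hsq, add_comm]
  · exact fun h => hne (eq_neg_of_add_eq_zero_left h)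
  · intro h
    have h2 : 2 ∣ e := hX.even.two_dvd
    have h' := congrArg (ZMod.castHom h2 (ZMod 2)) h
    have hj1 : ZMod.castHom h2 (ZMod 2) j = 1 := by
      have h3 : ∀ a : ZMod 2, a * a = 1 → a = 1 := by decide
      exact h3 _ (by rw [← map_mul, hsq, map_one])
    rw [map_add, map_one, hj1, half, map_natCast] at h'
    have hodd : ((e / 2 : ℕ) : ZMod 2) = 1 := by
      rw [← ZMod.natCast_mod, show e / 2 % 2 = 1 by have := hX.e_mod_four; omega, Nat.cast_one]
    rw [hodd] at h'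
    exact absurd h' (by decide)

theorem e_eq_two : e = 2 := by
  classical
  by_contra hne
  have he : 2 < e := lt_of_le_of_ne X.frame.two_le (Ne.symm hne)
  set M := Subgroup.normalizer ((Subgroup.zpowers u : Subgroup G) : Set G) with hMdef
  set N := Subgroup.normalizer ((Subgroup.zpowers z : Subgroup G) : Set G) with hNdef
  have : Fact (1 < e) := ⟨X.frame.two_le⟩
  have hneg : ∀ w ∈ M, w ∉ N → w * u * w⁻¹ = u⁻¹ := by
    intro w hw hwN
    obtain ⟨j, hj⟩ := hX.conj_index hw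
    rw [hj, hX.index_neg hw hwN hj, eq_inv_iff_mul_eq_one]
    conv_lhs => arg 2; rw [show u = u ^ (1 : ZMod e).val by rw [ZMod.val_one, pow_one]]
    rw [← X.frame.upow_add, neg_add_cancel, ZMod.val_zero, pow_zero]
  have hex : ∀ w₀ ∈ M, w₀ ∉ N → ∀ w ∈ M, w ∉ N → w₀⁻¹ * w ∈ Subgroup.zpowers u := by
    intro w₀ hw₀ hw₀N w hw hwN
    have hmem : w₀⁻¹ * w ∈ M := Subgroup.mul_mem _ (Subgroup.inv_mem _ hw₀) hw
    by_cases hin : w₀⁻¹ * w ∈ N
    · exact hX.mem_U hin hmem
    exfalso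
    have hc : w₀⁻¹ * w * u * (w₀⁻¹ * w)⁻¹ = u := by
      rw [show w₀⁻¹ * w * u * (w₀⁻¹ * w)⁻¹ = w₀⁻¹ * (w * u * w⁻¹) * w₀ by group, hneg w hw hwN,
        ← hneg w₀ hw₀ hw₀N]
      group
    have h := hneg _ hmem hin
    rw [hc, eq_inv_iff_mul_eq_one, ← sq, ← orderOf_dvd_iff_pow_eq_one, X.frame.ordu] at h
    have := Nat.le_of_dvd two_pos h
    omega
  obtain ⟨w₀, hw₀⟩ : ∃ w₀ : G, ∀ w ∈ M, w ∉ N → w₀⁻¹ * w ∈ Subgroup.zpowers u := by
    by_cases h : ∃ w₀ ∈ M, w₀ ∉ N
    · obtain ⟨w₀, h1, h2⟩ := h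
      exact ⟨w₀, hex w₀ h1 h2⟩
    · push Not at h
      exact ⟨1, fun w hw hwN => absurd (h w hw) hwN⟩
  have hcard : Nat.card M ≤ 2 * e := by
    let f : M → Bool × Subgroup.zpowers u := fun w =>
      if h : w.1 ∈ N then (true, ⟨w.1, hX.mem_U h w.2⟩)
      else (false, ⟨w₀⁻¹ * w.1, hw₀ w.1 w.2 h⟩)
    have hf : Function.Injective f := by
      intro a b h
      simp only [f] at h
      split_ifs at h with h1 h2 h2
      · exact Subtype.ext (congrArg (fun q : Bool × Subgroup.zpowers u => (q.2 : G)) h)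
      · simp at h
      · simp at h
      · exact Subtype.ext (mul_left_cancel (congrArg (fun q : Bool × Subgroup.zpowers u => (q.2 : G)) h))
    calc Nat.card M ≤ Nat.card (Bool × Subgroup.zpowers u) := Nat.card_le_card_of_injective f hf
      _ = 2 * e := by rw [Nat.card_prod, Nat.card_zpowers, X.frame.ordu]; simp
  rw [hX.card_normalizer_U] at hcard
  have := Nat.le_of_mul_le_mul_right hcard (NeZero.pos e)
  have := hX.three
  omega

/-- The centraliser of `u` is elementary abelian of order `p - 1`. -/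
theorem centralizer_u : Nat.card (Subgroup.centralizer ({u} : Set G)) = 2 * X.B.t ∧
    ∀ c ∈ Subgroup.centralizer ({u} : Set G), c ^ 2 = 1 := by
  have he := hX.e_eq_two
  have heq : Subgroup.centralizer ({u} : Set G) =
      Subgroup.normalizer ((Subgroup.zpowers u : Subgroup G) : Set G) := by
    refine le_antisymm ?_ fun w hw => ?_
    · rw [← Subgroup.centralizer_closure, ← Subgroup.zpowers_eq_closure]
      exact Subgroup.centralizer_le_normalizer _
    · obtain ⟨j, hj⟩ := hX.conj_index hw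
      have hj0 : j.val = 1 := by
        have hlt := ZMod.val_lt j
        rcases Nat.eq_zero_or_pos j.val with h0 | h0
        · rw [h0, pow_zero, conj_eq_one_iff] at hj
          have := X.frame.ordu
          rw [hj, orderOf_one] at this
          omega
        · omega
      rw [hj0, pow_one, mul_inv_eq_iff_eq_mul] at hj
      exact Subgroup.mem_centralizer_singleton_iff.2 hj
  have hcard : Nat.card (Subgroup.centralizer ({u} : Set G)) = 2 * X.B.t := by
    rw [heq, hX.card_normalizer_U, mul_comm]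
    exact congrArg (· * X.B.t) he
  refine ⟨hcard, fun c hc => ?_⟩
  rw [← orderOf_dvd_iff_pow_eq_one]
  have h := orderOf_dvd_natCard (⟨c, hc⟩ : Subgroup.centralizer ({u} : Set G))
  rw [Subgroup.orderOf_mk, hcard] at h
  obtain ⟨v, hv⟩ := hX.t_eq_two_pow
  rw [hv, show 2 * 2 ^ v = 2 ^ (v + 1) by ring] at h
  obtain ⟨w, hw, hw'⟩ := (Nat.dvd_prime_pow Nat.prime_two).1 h
  rw [hw']
  refine (pow_dvd_pow 2 (?_ : w ≤ 1)).trans (dvd_of_eq (pow_one 2))
  by_contra hlt
  refine hX.no_order_four (c ^ 2 ^ (w - 2)) ?_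
  rw [orderOf_pow_of_dvd (pow_ne_zero _ two_ne_zero) (hw' ▸ pow_dvd_pow 2 (Nat.sub_le w 2)), hw',
    Nat.pow_div (Nat.sub_le w 2) two_pos, show w - (w - 2) = 2 by omega]
  rfl

end Big

end Cfsg.Agent.H31.FewSylow
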