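import Mathlib
import Cfsg.Agent.H31.FewSylow.TwoPower
import Cfsg.Agent.H31.PSL2Recog
import Cfsg.Agent.S1230

/-!
Perfect groups with a self-centralising subgroup of prime order and few Sylow subgroups.
-/

set_option autoImplicit false
set_option linter.unusedSectionVars false

namespace Cfsg.Agent.H31.FewSylow

open Cfsg.Agent.H31.Defect
open scoped commutatorElement

universe v

variable {G : Type v} [Group G] [Fintype G] {p : ℕ} [hp : Fact p.Prime] {z : G}

theorem not_sq_dvd (hz : orderOf z = p)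
    (hC : Subgroup.centralizer ({z} : Set G) = Subgroup.zpowers z) : ¬ p ^ 2 ∣ Nat.card G := by
  intro hd
  obtain ⟨Q, hQ, hle⟩ := Sylow.exists_subgroup_card_pow_prime_le p hd (Subgroup.zpowers z)
    (show Nat.card (Subgroup.zpowers z) = p ^ 1 by rw [Nat.card_zpowers, hz, pow_one]) (by decide)
  have hzQ : z ∈ Q := hle (Subgroup.mem_zpowers z)
  have hcent : Q ≤ Subgroup.centralizer ({z} : Set G) := by
    intro q hq
    rw [Subgroup.mem_centralizer_singleton_iff]
    have hcomm := IsPGroup.isMulCommutative_of_card_eq_prime_sq (p := p) hQ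
    exact congrArg Subtype.val (hcomm.is_comm.comm (⟨q, hq⟩ : Q) ⟨z, hzQ⟩)
  rw [hC] at hcent
  have h := Nat.le_of_dvd Nat.card_pos (Subgroup.card_dvd_of_le hcent)
  rw [hQ, Nat.card_zpowers, hz] at h
  have := hp.out.two_le
  nlinarith

theorem commutator_mem (hz : orderOf z = p)
    (hC : Subgroup.centralizer ({z} : Set G) = Subgroup.zpowers z) {g h : G}
    (hg : g ∈ Subgroup.normalizer ((Subgroup.zpowers z : Subgroup G) : Set G))
    (hh : h ∈ Subgroup.normalizer ((Subgroup.zpowers z : Subgroup G) : Set G)) :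
    g * h * g⁻¹ * h⁻¹ ∈ Subgroup.zpowers z := by
  obtain ⟨a, -, -, ha⟩ := exists_exp_of_mem_normalizer hz hg
  obtain ⟨b, -, -, hb⟩ := exists_exp_of_mem_normalizer hz hh
  have h1 : g * h * z * (g * h)⁻¹ = h * g * z * (h * g)⁻¹ := by
    rw [show g * h * z * (g * h)⁻¹ = g * (h * z * h⁻¹) * g⁻¹ by group,
      show h * g * z * (h * g)⁻¹ = h * (g * z * g⁻¹) * h⁻¹ by group, ha, hb, ← conj_pow, ← conj_pow,
      ha, hb, ← pow_mul, ← pow_mul, mul_comm]
  rw [← hC, Subgroup.mem_centralizer_singleton_iff]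
  -- conjugate `z` by `(h g)⁻¹ (g h)`
  have h2 : (h * g)⁻¹ * (g * h) * z * ((h * g)⁻¹ * (g * h))⁻¹ = z := by
    rw [show (h * g)⁻¹ * (g * h) * z * ((h * g)⁻¹ * (g * h))⁻¹ =
      (h * g)⁻¹ * (g * h * z * (g * h)⁻¹) * (h * g) by group, h1]
    group
  have h3 : (h * g)⁻¹ * (g * h) ∈ Subgroup.centralizer ({z} : Set G) :=
    Subgroup.mem_centralizer_singleton_iff.2 (mul_inv_eq_iff_eq_mul.1 h2)
  rw [hC] at h3
  have h4 : g * h * g⁻¹ * h⁻¹ ∈ Subgroup.centralizer ({z} : Set G) := by
    rw [show g * h * g⁻¹ * h⁻¹ = (h * g) * ((h * g)⁻¹ * (g * h)) * (h * g)⁻¹ by group, hC]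
    exact (Subgroup.mem_normalizer_iff.1 (Subgroup.mul_mem _ hh hg) _).1 h3
  exact Subgroup.mem_centralizer_singleton_iff.1 h4

theorem normalizer_ne_top (hperf : commutator G = ⊤) (hz : orderOf z = p)
    (hC : Subgroup.centralizer ({z} : Set G) = Subgroup.zpowers z) :
    Subgroup.normalizer ((Subgroup.zpowers z : Subgroup G) : Set G) ≠ ⊤ := by
  intro htop
  have hle : commutator G ≤ Subgroup.zpowers z := by
    rw [commutator_def, Subgroup.commutator_le]
    intro g _ h _
    rw [commutatorElement_def]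
    exact commutator_mem hz hC (htop ▸ Subgroup.mem_top g) (htop ▸ Subgroup.mem_top h)
  rw [hperf] at hle
  have hbot : commutator G = ⊥ := by
    rw [eq_bot_iff, commutator_def, Subgroup.commutator_le]
    intro g _ h _
    obtain ⟨a, rfl⟩ := hle (Subgroup.mem_top g)
    obtain ⟨b, rfl⟩ := hle (Subgroup.mem_top h)
    rw [Subgroup.mem_bot, commutatorElement_def]
    simp only [← zpow_neg, ← zpow_add]
    rw [show a + b + -a + -b = 0 by ring, zpow_zero]
  rw [hperf] at hbot
  have hz1 : z ∈ (⊥ : Subgroup G) := hbot ▸ Subgroup.mem_top z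
  rw [Subgroup.mem_bot] at hz1
  rw [hz1, orderOf_one] at hz
  exact hp.out.ne_one hz.symm

/-- A perfect group of this kind with `p + 1` Sylow subgroups is simple. -/
theorem isSimpleGroup_of_one {e : ℕ} [NeZero e] {u : G} (hperf : commutator G = ⊤)
    (F : Frame p e z u) (hcard : Nat.card G = p * e * (p + 1)) : IsSimpleGroup G := by
  classical
  set N := Subgroup.normalizer ((Subgroup.zpowers z : Subgroup G) : Set G) with hN
  have hsq := not_sq_dvd F.ordz F.cent
  have hne : z ≠ 1 := fun h => by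
    have h0 := F.ordz
    rw [h, orderOf_one] at h0
    exact hp.out.ne_one h0.symm
  have : Nontrivial G := nontrivial_of_ne z 1 hne
  refine { eq_bot_or_eq_top_of_normal := fun M hM => ?_ }
  -- if `M` and `N` generate `G` then `M` and `z` do
  have hgen : M ⊔ N = ⊤ → (⊤ : Subgroup G) ≤ M ⊔ Subgroup.zpowers z := by
    intro h
    rw [← hperf, commutator_def, Subgroup.commutator_le]
    intro g _ h' _
    have hg : g ∈ ((M ⊔ N : Subgroup G) : Set G) := by rw [h]; exact Subgroup.mem_top g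
    have hh : h' ∈ ((M ⊔ N : Subgroup G) : Set G) := by rw [h]; exact Subgroup.mem_top h'
    rw [Subgroup.normal_mul, Set.mem_mul] at hg hh
    obtain ⟨a, ha, x, hx, rfl⟩ := hg
    obtain ⟨b, hb, y, hy, rfl⟩ := hh
    -- work in the quotient
    have hq : (QuotientGroup.mk' M) ⁅a * x, b * y⁆ = (QuotientGroup.mk' M) ⁅x, y⁆ := by
      have ha' : (QuotientGroup.mk' M) a = 1 := (QuotientGroup.eq_one_iff a).2 ha
      have hb' : (QuotientGroup.mk' M) b = 1 := (QuotientGroup.eq_one_iff b).2 hb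
      simp only [commutatorElement_def, map_mul, map_inv, ha', hb', one_mul]
    have hm : ⁅a * x, b * y⁆ * ⁅x, y⁆⁻¹ ∈ M := by
      rw [← QuotientGroup.eq_one_iff]
      show (QuotientGroup.mk' M) (⁅a * x, b * y⁆ * ⁅x, y⁆⁻¹) = 1
      rw [map_mul, map_inv, hq, mul_inv_cancel]
    have hz' : ⁅x, y⁆ ∈ Subgroup.zpowers z := by
      rw [commutatorElement_def]; exact commutator_mem F.ordz F.cent hx hy
    rw [show ⁅a * x, b * y⁆ = ⁅a * x, b * y⁆ * ⁅x, y⁆⁻¹ * ⁅x, y⁆ by group]
    exact Subgroup.mul_mem _ (Subgroup.mem_sup_left hm) (Subgroup.mem_sup_right hz')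
  by_cases hpM : p ∣ Nat.card M
  · right
    -- all subgroups of order `p` lie in `M`
    have hconj : ∀ y : G, orderOf y = p → y ∈ M → ∀ w : G, orderOf w = p → w ∈ M := by
      intro y hy hyM w hw
      have hsy : ∀ a : G, orderOf a = p → ∃ P : Sylow p G, (P : Subgroup G) = Subgroup.zpowers a := by
        intro a ha
        have h1 : IsPGroup p (Subgroup.zpowers a) := IsPGroup.of_card (n := 1) (by
          rw [Nat.card_zpowers, ha, pow_one])
        obtain ⟨P, hP⟩ := h1.exists_le_sylow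
        refine ⟨P, (Subgroup.eq_of_le_of_card_ge hP ?_).symm⟩
        obtain ⟨k, hk⟩ := P.isPGroup'.exists_card_eq
        rw [Nat.card_zpowers, ha, hk]
        have hk1 : k ≤ 1 := by
          by_contra hlt
          exact hsq ((pow_dvd_pow p (not_le.1 hlt)).trans (hk ▸ Subgroup.card_subgroup_dvd_card _))
        calc p ^ k ≤ p ^ 1 := Nat.pow_le_pow_right hp.out.pos hk1
          _ = p := pow_one p
      obtain ⟨P, hP⟩ := hsy y hy
      obtain ⟨Q, hQ⟩ := hsy w hw
      obtain ⟨g, hg⟩ := MulAction.exists_smul_eq G P Q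
      have h2 : w ∈ ((g • P : Sylow p G) : Subgroup G) := by rw [hg, hQ]; exact Subgroup.mem_zpowers w
      rw [Sylow.coe_subgroup_smul, hP] at h2
      obtain ⟨b, hb, rfl⟩ := h2
      exact hM.conj_mem b (Subgroup.zpowers_le.2 hyM hb) g
    obtain ⟨y, hy⟩ := exists_prime_orderOf_dvd_card' p hpM
    have hzM : z ∈ M := hconj y.1 (by rw [Subgroup.orderOf_coe]; exact hy) y.2 z F.ordz
    -- Frattini
    have htop : M ⊔ N = ⊤ := by
      rw [eq_top_iff]
      intro g _
      have h1 : IsPGroup p ((Subgroup.zpowers z).subgroupOf M) := by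
        refine IsPGroup.of_card (n := 1) ?_
        rw [Nat.card_congr (Subgroup.subgroupOfEquivOfLe (Subgroup.zpowers_le.2 hzM)).toEquiv,
          Nat.card_zpowers, F.ordz, pow_one]
      have hgz : orderOf (g * z * g⁻¹) = p :=
        (orderOf_injective (MulAut.conj g).toMonoidHom (MulAut.conj g).injective z).trans F.ordz
      have hgzM : g * z * g⁻¹ ∈ M := hM.conj_mem z hzM g
      have hsM : ¬ p ^ 2 ∣ Nat.card M := fun h => hsq (h.trans (Subgroup.card_subgroup_dvd_card M))
      have hsyl : ∀ a : M, orderOf a = p → ∃ P : Sylow p M, (P : Subgroup M) = Subgroup.zpowers a := by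
        intro a ha
        have h1 : IsPGroup p (Subgroup.zpowers a) := IsPGroup.of_card (n := 1) (by
          rw [Nat.card_zpowers, ha, pow_one])
        obtain ⟨P, hP⟩ := h1.exists_le_sylow
        refine ⟨P, (Subgroup.eq_of_le_of_card_ge hP ?_).symm⟩
        obtain ⟨k, hk⟩ := P.isPGroup'.exists_card_eq
        rw [Nat.card_zpowers, ha, hk]
        have hk1 : k ≤ 1 := by
          by_contra hlt
          exact hsM ((pow_dvd_pow p (not_le.1 hlt)).trans (hk ▸ Subgroup.card_subgroup_dvd_card _))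
        calc p ^ k ≤ p ^ 1 := Nat.pow_le_pow_right hp.out.pos hk1
          _ = p := pow_one p
      obtain ⟨P, hP⟩ := hsyl ⟨z, hzM⟩ (by rw [Subgroup.orderOf_mk, F.ordz])
      obtain ⟨Q, hQ⟩ := hsyl ⟨_, hgzM⟩ (by rw [Subgroup.orderOf_mk, hgz])
      obtain ⟨m, hm⟩ := MulAction.exists_smul_eq M P Q
      have h2 : (⟨_, hgzM⟩ : M) ∈ ((m • P : Sylow p M) : Subgroup M) := by
        rw [hm, hQ]; exact Subgroup.mem_zpowers _
      rw [Sylow.coe_subgroup_smul, hP] at h2
      obtain ⟨b, hb, hb'⟩ := h2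
      obtain ⟨s, hs⟩ := (mem_powers_iff_mem_zpowers).2 hb
      have h3 : (m : G) * z ^ s * (m : G)⁻¹ = g * z * g⁻¹ := by
        have h' := congrArg Subtype.val hb'
        rw [← hs] at h'
        simpa using h'
      have h4 : (m : G)⁻¹ * g * z * ((m : G)⁻¹ * g)⁻¹ = z ^ s := by
        rw [show (m : G)⁻¹ * g * z * ((m : G)⁻¹ * g)⁻¹ = (m : G)⁻¹ * (g * z * g⁻¹) * m by group, ← h3]
        group
      have h5 : g = (m : G) * ((m : G)⁻¹ * g) := (mul_inv_cancel_left _ _).symm
      rw [h5]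
      exact Subgroup.mul_mem _ (Subgroup.mem_sup_left m.2)
        (Subgroup.mem_sup_right (mem_normalizer_of_conj_eq F.ordz h4))
    exact eq_top_iff.2 ((hgen htop).trans (sup_le le_rfl (Subgroup.zpowers_le.2 hzM)))
  · left
    have hcap : ∀ g ∈ M, g ∈ N → g = 1 := by
      intro g hgM hgN
      have h1 : g * z * g⁻¹ * z⁻¹ ∈ Subgroup.zpowers z :=
        Subgroup.mul_mem _ ((Subgroup.mem_normalizer_iff.1 hgN z).1 (Subgroup.mem_zpowers z))
          (Subgroup.inv_mem _ (Subgroup.mem_zpowers z))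
      have h2 : g * z * g⁻¹ * z⁻¹ ∈ M := by
        rw [show g * z * g⁻¹ * z⁻¹ = g * (z * g⁻¹ * z⁻¹) by group]
        exact Subgroup.mul_mem _ hgM (hM.conj_mem _ (Subgroup.inv_mem _ hgM) z)
      have h0 : ∀ x ∈ Subgroup.zpowers z, x ∈ M → x = 1 := by
        intro x hx hxM
        have ho := orderOf_dvd_natCard (⟨x, hx⟩ : Subgroup.zpowers z)
        rw [Nat.card_zpowers, F.ordz, Subgroup.orderOf_mk] at ho
        rcases (Nat.dvd_prime hp.out).1 ho with h' | h'
        · exact orderOf_eq_one_iff.1 h'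
        · refine absurd ?_ hpM
          have := orderOf_dvd_natCard (⟨x, hxM⟩ : M)
          rwa [Subgroup.orderOf_mk, h'] at this
      have h3 : g * z = z * g := mul_inv_eq_iff_eq_mul.1 (mul_inv_eq_one.1 (h0 _ h1 h2))
      have h4 : g ∈ Subgroup.zpowers z := F.cent ▸ Subgroup.mem_centralizer_singleton_iff.2 h3
      exact h0 g h4 hgM
    let f : M × N → G := fun x => (x.1 : G) * x.2
    have hinj : Function.Injective f := by
      rintro ⟨a, x⟩ ⟨b, y⟩ h
      have h' : (a : G) * x = b * y := h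
      have h1 : (b : G)⁻¹ * a = (y : G) * (x : G)⁻¹ := by
        rw [inv_mul_eq_iff_eq_mul, ← mul_assoc, ← h', mul_inv_cancel_right]
      have h2 := hcap _ (Subgroup.mul_mem _ (Subgroup.inv_mem _ b.2) a.2)
        (h1 ▸ Subgroup.mul_mem _ y.2 (Subgroup.inv_mem _ x.2))
      rw [h2] at h1
      exact Prod.ext (Subtype.ext (inv_mul_eq_one.1 h2).symm)
        (Subtype.ext (mul_inv_eq_one.1 h1.symm).symm)
    have hle := Nat.card_le_card_of_injective f hinj
    rw [Nat.card_prod, F.cardN, hcard, mul_comm] at hle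
    have hMle : Nat.card M ≤ p + 1 :=
      Nat.le_of_mul_le_mul_left hle (Nat.mul_pos hp.out.pos (NeZero.pos e))
    -- `z` fixes only the identity of `M`
    let act : Subgroup.zpowers z →* MulAut M :=
      MonoidHom.comp (MulAut.conjNormal (H := M)) (Subgroup.zpowers z).subtype
    let _ : MulAction (Subgroup.zpowers z) M := MulAction.compHom M act
    have hmod := (IsPGroup.of_card (n := 1) (show Nat.card (Subgroup.zpowers z) = p ^ 1 by
      rw [Nat.card_zpowers, F.ordz, pow_one]) : IsPGroup p (Subgroup.zpowers z)).card_modEq_card_fixedPoints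
        (α := M)
    have hfix : Nat.card (MulAction.fixedPoints (Subgroup.zpowers z) M) = 1 := by
      rw [Nat.card_eq_one_iff_unique]
      refine ⟨⟨fun a b => ?_⟩, ⟨⟨1, fun g => map_one (act g)⟩⟩⟩
      have key : ∀ a : MulAction.fixedPoints (Subgroup.zpowers z) M, (a.1 : G) = 1 := by
        intro a
        have h1 := congrArg Subtype.val (a.2 ⟨z, Subgroup.mem_zpowers z⟩)
        change z * (a.1 : G) * z⁻¹ = a.1 at h1
        refine hcap _ a.1.2 (Subgroup.le_normalizer (F.cent.le ?_))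
        exact Subgroup.mem_centralizer_singleton_iff.2 (mul_inv_eq_iff_eq_mul.1 h1).symm
      exact Subtype.ext (Subtype.ext ((key a).trans (key b).symm))
    rw [hfix] at hmod
    have hM1 : Nat.card M = 1 ∨ Nat.card M = p + 1 := by
      have h1 : p ∣ Nat.card M - 1 := (Nat.modEq_iff_dvd' Nat.card_pos).1 hmod.symm
      rcases Nat.eq_zero_or_pos (Nat.card M - 1) with h0 | h0
      · exact Or.inl (by have := Nat.card_pos (α := M); omega)
      · exact Or.inr (by have := Nat.le_of_dvd h0 h1; omega)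
    rcases hM1 with h | h
    · exact Subgroup.eq_bot_of_card_eq M h
    exfalso
    have hbij : Function.Bijective f := (Nat.bijective_iff_injective_and_card f).2
      ⟨hinj, by rw [Nat.card_prod, F.cardN, hcard, h, mul_comm]⟩
    have htop : M ⊔ N = ⊤ := by
      rw [eq_top_iff]
      intro g _
      obtain ⟨⟨a, b⟩, rfl⟩ := hbij.2 g
      exact Subgroup.mul_mem _ (Subgroup.mem_sup_left a.2) (Subgroup.mem_sup_right b.2)
    have hsurj : Function.Surjective fun x : M × Subgroup.zpowers z => (x.1 : G) * x.2 := by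
      intro g
      have hg : g ∈ ((M ⊔ Subgroup.zpowers z : Subgroup G) : Set G) := hgen htop (Subgroup.mem_top g)
      rw [Subgroup.normal_mul, Set.mem_mul] at hg
      obtain ⟨a, ha, b, hb, rfl⟩ := hg
      exact ⟨⟨⟨a, ha⟩, ⟨b, hb⟩⟩, rfl⟩
    have h2 := Nat.card_le_card_of_surjective _ hsurj
    rw [Nat.card_prod, Nat.card_zpowers, F.ordz, hcard, h, mul_comm (p + 1)] at h2
    have he := F.two_le
    have h3 : p * 2 * (p + 1) ≤ p * e * (p + 1) :=
      Nat.mul_le_mul_right _ (Nat.mul_le_mul_left _ he)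
    have := hp.out.pos
    nlinarith

/-- The recognition of the two families from the shape of the block. -/
theorem conclusion_gen {G : Type v} [Group G] [Finite G] (hperf : commutator G = ⊤) (p : ℕ)
    [hp : Fact p.Prime] (z : G) (hz : orderOf z = p)
    (hC : Subgroup.centralizer ({z} : Set G) = Subgroup.zpowers z)
    (hsh : ∀ [Fintype G] (H : Subgroup G) (_ : Parts p z ⊥ H) (B : BlockData p z (⊥ : Subgroup G))
      (n : ℕ), 1 ≤ n → Nat.card (Sylow p G) = n * p + 1 → Shape B n) :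
    (∃ (F : Type) (_ : Field F) (_ : Fintype F), Fintype.card F = p ∧ 3 < p ∧
      Nonempty (G ≃* Matrix.ProjectiveSpecialLinearGroup (Fin 2) F)) ∨
    (∃ (m : ℕ) (F : Type) (_ : Field F) (_ : Fintype F), Fintype.card F = 2 ^ m ∧ p = 2 ^ m + 1 ∧
      3 < p ∧ Nonempty (G ≃* Matrix.ProjectiveSpecialLinearGroup (Fin 2) F)) := by
  classical
  let _ : Fintype G := Fintype.ofFinite G
  have hsq := not_sq_dvd hz hC
  obtain ⟨V, H, S⟩ := exists_parts hz hsq
  obtain rfl : V = ⊥ := by
    rw [eq_bot_iff]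
    intro v hv
    rw [Subgroup.mem_bot]
    have h1 : v ∈ Subgroup.zpowers z := hC ▸ S.le_cent hv
    have ho := orderOf_dvd_natCard (⟨v, h1⟩ : Subgroup.zpowers z)
    rw [Nat.card_zpowers, hz, Subgroup.orderOf_mk] at ho
    rcases (Nat.dvd_prime hp.out).1 ho with h | h
    · exact orderOf_eq_one_iff.1 h
    · have h2 := orderOf_dvd_natCard (⟨v, hv⟩ : (V : Subgroup G))
      rw [Subgroup.orderOf_mk, h] at h2
      exact absurd h2 S.ndvd_V
  obtain ⟨n, hcard⟩ : ∃ n, Nat.card (Sylow p G) = n * p + 1 := by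
    refine ⟨Nat.card (Sylow p G) / p, ?_⟩
    have hm := card_sylow_modEq_one p G
    rw [Nat.ModEq, Nat.one_mod_eq_one.2 hp.out.ne_one] at hm
    have := Nat.div_add_mod (Nat.card (Sylow p G)) p
    rw [hm, mul_comm] at this
    exact this.symm
  have hn1 : 1 ≤ n := by
    by_contra hlt
    rw [show n = 0 by omega, zero_mul, zero_add, card_sylow_index S, Subgroup.index_eq_one] at hcard
    exact normalizer_ne_top hperf hz hC hcard
  set e := (H30.conjExps p z).card with he
  have hG : Nat.card G = p * e * (n * p + 1) := by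
    rw [card_group S hcard, Subgroup.card_bot, mul_one, ← he, mul_assoc]
  obtain ⟨B⟩ := S.nonempty_blockData
  have Sh := hsh H S B n hn1 hcard
  have hN : Nat.card (Subgroup.normalizer ((Subgroup.zpowers z : Subgroup G) : Set G)) = p * e := by
    rw [card_normalizer S, Subgroup.card_bot, mul_one]
  obtain ⟨u, F⟩ := exists_frame S hC hN Sh.two_le
  have : NeZero e := ⟨by have := Sh.two_le; omega⟩
  let X : Setting p e n z u := ⟨B, F, he.symm, Sh, hG, hn1⟩
  have hone : n = 1 → X.B.t = 2 → ∃ (F : Type) (_ : Field F) (_ : Fintype F),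
      Fintype.card F = p ∧ 3 < p ∧
      Nonempty (G ≃* Matrix.ProjectiveSpecialLinearGroup (Fin 2) F) := by
    intro h1 ht
    subst h1
    rw [one_mul] at hG hcard
    have het := X.et
    rw [ht] at het
    have h2 := F.two_le
    have := isSimpleGroup_of_one hperf F hG
    refine ⟨ZMod p, inferInstance, inferInstance, ZMod.card p, by omega,
      nonempty_mulEquiv_psl_two_prime (by omega) ?_ hcard (ZMod.card p)⟩
    rw [hG]
    have h3 : p ^ 2 - 1 = (p + 1) * (p - 1) := by
      rw [← Nat.sq_sub_sq, one_pow]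
    rw [h3, show p - 1 = e * 2 by omega]
    ring
  rcases Nat.even_or_odd e with hev | hodd
  swap
  · obtain ⟨h1, h2⟩ := X.odd_case (Nat.not_even_iff_odd.2 hodd)
    exact Or.inl (hone h1 h2)
  obtain ⟨hneg, ht, hmult⟩ := X.even_case hev
  rcases Nat.lt_or_ge X.B.t 3 with hlt | hge
  · exact Or.inl (hone (by omega) (by omega))
  right
  have hX : Big X := ⟨hev, hneg, ht, hmult, hge⟩
  obtain ⟨v, hv⟩ := hX.t_eq_two_pow
  have he2 := hX.e_eq_two
  obtain ⟨hcC, hsqC⟩ := hX.centralizer_u
  set C := Subgroup.centralizer ({u} : Set G) with hCdef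
  have hCp : IsPGroup 2 C := IsPGroup.of_card (n := v + 1) (by rw [hcC, hv]; ring)
  obtain ⟨T, hT⟩ := hCp.exists_le_sylow
  have hGt : Nat.card G = p * X.B.D * (2 * X.B.t) := by
    rw [hG, ← X.D_neg hneg]
    linear_combination (p * (X.B.t * X.B.D)) * he2
  have hTC : (T : Subgroup G) = C := by
    refine (Subgroup.eq_of_le_of_card_ge hT ?_).symm
    obtain ⟨k, hk⟩ := T.isPGroup'.exists_card_eq
    rw [hk, hcC]
    have h1 : 2 ^ k ∣ p * X.B.D * (2 * X.B.t) := hGt ▸ hk ▸ Subgroup.card_subgroup_dvd_card _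
    refine Nat.le_of_dvd (by omega) (Nat.Coprime.dvd_of_dvd_mul_left ?_ h1)
    have hop : Odd p := hp.out.odd_of_ne_two (by have := X.three_le; omega)
    exact Nat.Coprime.pow_left k ((Nat.coprime_two_left).2
      (hop.mul (Nat.not_even_iff_odd.1 hX.odd_D)))
  have hTcard : Nat.card T = 2 * X.B.t := by
    show Nat.card (T : Subgroup G) = _
    rw [hTC, hcC]
  have hhalf : u ^ (half e).val = u := by
    rw [half_val, show e / 2 = 1 by omega, pow_one]
  have hconj : ∀ τ : G, orderOf τ = 2 → ∃ x : G, x * τ * x⁻¹ = u := fun τ hτ => by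
    obtain ⟨x, hx⟩ := hX.involution_conj hτ
    exact ⟨x, hx.trans hhalf⟩
  have hnc : ¬ IsCyclic (T : Subgroup G) := by
    intro hcyc
    obtain ⟨g, hg⟩ := IsCyclic.exists_ofOrder_eq_natCard (α := (T : Subgroup G))
    have h1 : (g : G) ^ 2 = 1 := hsqC _ (hTC ▸ g.2)
    have h2 : orderOf g ∣ 2 := orderOf_dvd_of_pow_eq_one (Subtype.ext (by push_cast; exact h1))
    rw [hg] at h2
    have h3 := Nat.le_of_dvd two_pos h2
    change Nat.card T ≤ 2 at h3
    omega
  have hnn : ¬ (T : Subgroup G).Normal := by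
    intro hnormal
    have hu : u ∈ (T : Subgroup G) := hTC ▸ Subgroup.mem_centralizer_singleton_iff.2 rfl
    let f : G → (T : Subgroup G) := fun x => ⟨x * u * x⁻¹, hnormal.conj_mem u hu x⟩
    have hle : (Finset.univ : Finset G).card ≤
        Nat.card C * (Finset.univ.image f).card := by
      refine Finset.card_le_mul_card_image _ _ fun b hb => ?_
      obtain ⟨x₀, -, rfl⟩ := Finset.mem_image.1 hb
      rw [Nat.card_eq_fintype_card, ← Finset.card_univ]
      refine Finset.card_le_card_of_injOn (fun x => if h : x₀⁻¹ * x ∈ C then (⟨x₀⁻¹ * x, h⟩ : C)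
        else 1) (fun _ _ => Finset.mem_univ _) fun a ha b hb hab => ?_
      have hm : ∀ y ∈ Finset.univ.filter (fun x => f x = f x₀), x₀⁻¹ * y ∈ C := by
        intro y hy
        have h1 : y * u * y⁻¹ = x₀ * u * x₀⁻¹ := congrArg Subtype.val (Finset.mem_filter.1 hy).2
        rw [hCdef, Subgroup.mem_centralizer_singleton_iff]
        calc x₀⁻¹ * y * u = x₀⁻¹ * (y * u * y⁻¹) * y := by group
          _ = u * (x₀⁻¹ * y) := by rw [h1]; group
      have hab' : (if h : x₀⁻¹ * a ∈ C then (⟨x₀⁻¹ * a, h⟩ : C) else 1) =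
          (if h : x₀⁻¹ * b ∈ C then (⟨x₀⁻¹ * b, h⟩ : C) else 1) := hab
      rw [dif_pos (hm a (Finset.mem_coe.1 ha)), dif_pos (hm b (Finset.mem_coe.1 hb))] at hab'
      exact mul_left_cancel (congrArg Subtype.val hab')
    rw [Finset.card_univ, ← Nat.card_eq_fintype_card] at hle
    have h2 : (Finset.univ.image f).card ≤ Nat.card T := by
      show _ ≤ Nat.card (T : Subgroup G)
      rw [Nat.card_eq_fintype_card]
      exact Finset.card_le_univ _
    have h3 : Nat.card G ≤ 2 * X.B.t * (2 * X.B.t) :=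
      hle.trans (Nat.mul_le_mul hcC.le (h2.trans hTcard.le))
    rw [hGt] at h3
    have h4 := Nat.le_of_mul_le_mul_right h3 (by omega)
    have h5 : p * 1 ≤ p * X.B.D := Nat.mul_le_mul_left p X.B.D_pos
    have het : e * X.B.t + 1 = p := X.et
    have h6 : e * X.B.t = 2 * X.B.t := congrArg (· * X.B.t) he2
    omega
  have hC' : ∀ t : G, orderOf t = 2 → IsMulCommutative (Subgroup.centralizer ({t} : Set G)) ∧
      ∀ c ∈ Subgroup.centralizer ({t} : Set G), c ^ 2 = 1 := by
    intro τ hτ
    obtain ⟨x, hx⟩ := hconj τ hτ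
    have hsq2 : ∀ c ∈ Subgroup.centralizer ({τ} : Set G), c ^ 2 = 1 := by
      intro c hc
      have hc' : c * τ = τ * c := Subgroup.mem_centralizer_singleton_iff.1 hc
      have h1 : x * c * x⁻¹ ∈ C := by
        rw [hCdef, Subgroup.mem_centralizer_singleton_iff, ← hx]
        calc x * c * x⁻¹ * (x * τ * x⁻¹) = x * (c * τ) * x⁻¹ := by group
          _ = x * τ * x⁻¹ * (x * c * x⁻¹) := by rw [hc']; group
      have h2 := hsqC _ h1
      rw [conj_pow, conj_eq_one_iff] at h2
      exact h2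
    refine ⟨⟨⟨fun a b => Subtype.ext ?_⟩⟩, hsq2⟩
    have inv_self : ∀ c ∈ Subgroup.centralizer ({τ} : Set G), c⁻¹ = c := fun c hc =>
      inv_eq_of_mul_eq_one_right (by rw [← sq]; exact hsq2 c hc)
    show (a : G) * b = b * a
    calc (a : G) * b = ((a : G) * b)⁻¹ := (inv_self _ (Subgroup.mul_mem _ a.2 b.2)).symm
      _ = b * a := by rw [mul_inv_rev, inv_self _ a.2, inv_self _ b.2]
  obtain ⟨F', _, _, hF, hiso⟩ := Cfsg.Agent.S1230.result T hnc hnn hC'
  refine ⟨v + 1, F', inferInstance, inferInstance, ?_, ?_, ?_, hiso⟩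
  · rw [hF, hTcard, hv]; ring
  · have het : e * X.B.t + 1 = p := X.et
    rw [← het, pow_succ, ← hv, Nat.add_right_cancel_iff]
    linear_combination X.B.t * he2
  · have het : e * X.B.t + 1 = p := X.et
    have h6 : 2 * 3 ≤ e * X.B.t := Nat.mul_le_mul F.two_le hge
    omega

/-- The recognition of the two families. -/
theorem conclusion {G : Type v} [Group G] [Finite G] (hperf : commutator G = ⊤) (p : ℕ)
    [hp : Fact p.Prime] (z : G) (hz : orderOf z = p)
    (hC : Subgroup.centralizer ({z} : Set G) = Subgroup.zpowers z)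
    (hn : 2 * Nat.card (Sylow p G) < (p + 1) * (p + 2)) :
    (∃ (F : Type) (_ : Field F) (_ : Fintype F), Fintype.card F = p ∧ 3 < p ∧
      Nonempty (G ≃* Matrix.ProjectiveSpecialLinearGroup (Fin 2) F)) ∨
    (∃ (m : ℕ) (F : Type) (_ : Field F) (_ : Fintype F), Fintype.card F = 2 ^ m ∧ p = 2 ^ m + 1 ∧
      3 < p ∧ Nonempty (G ≃* Matrix.ProjectiveSpecialLinearGroup (Fin 2) F)) := by
  refine conclusion_gen hperf p z hz hC fun H S B n hn1 hcard => ?_
  refine shape S B hperf hn1 ?_ hcard ?_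
  · rw [hcard] at hn
    by_contra hlt
    have := Nat.mul_le_mul_right p (not_lt.1 hlt)
    nlinarith
  · rw [Subgroup.card_bot, mul_one, ← mul_assoc, mul_comm B.t, B.et]
    have := hp.out.two_le
    have h1 : 1 * (p + 1) ≤ (p - 1) * (n * p + 1) := Nat.mul_le_mul (by omega) (by nlinarith)
    omega

end Cfsg.Agent.H31.FewSylow
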