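import Mathlib
import Cfsg.Agent.H31.FewSylow.Main
import Cfsg.Agent.H25.CharValues

/-!
Simple groups with a prime divisor `p` and order less than `p ^ 3`.
-/

set_option autoImplicit false
set_option linter.unusedSectionVars false

namespace Cfsg.Agent.H31.FewSylow

open Cfsg.Agent.H31.Defect
open scoped ComplexConjugate commutatorElement

variable {G : Type*} [Group G] [Fintype G] {p : ℕ} [hp : Fact p.Prime] {z : G}

/-- An element multiplying an eigenspace-free part trivially lies in the kernel. -/
theorem char_eq_of_eigen_zero (θ : Cfsg.IrrCharacter G) (hz : orderOf z = p) (k : ZMod p)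
    (h0 : ∑ i : ZMod p, θ.1 (z ^ i.val) * conj (ZMod.stdAddChar (k * i)) = 0) {v : G}
    (hv : ∀ i : ZMod p, i ≠ 0 → θ.1 (z ^ i.val * v) = θ.1 (z ^ i.val)) : θ.1 v = θ.1 1 := by
  classical
  obtain ⟨n, ρ, -, hρ⟩ := θ.2
  let c : ZMod p → ℂ := fun i => conj (ZMod.stdAddChar (k * i))
  set Q : Module.End ℂ (Fin n → ℂ) := (p : ℂ)⁻¹ • ∑ i : ZMod p, c i • ρ (z ^ i.val) with hQ
  have hp0 : (p : ℂ) ≠ 0 := Nat.cast_ne_zero.2 hp.out.ne_zero
  have htr : ∀ w : G, LinearMap.trace ℂ (Fin n → ℂ) (Q * ρ w) =
      (p : ℂ)⁻¹ * ∑ i : ZMod p, θ.1 (z ^ i.val * w) * c i := by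
    intro w
    rw [hQ, smul_mul_assoc, Finset.sum_mul, map_smul, map_sum, smul_eq_mul]
    congr 1
    refine Finset.sum_congr rfl fun i _ => ?_
    rw [smul_mul_assoc, ← map_mul, map_smul, smul_eq_mul, mul_comm, ← congrFun hρ (z ^ i.val * w)]
    rfl
  have hQQ : Q * Q = Q := by
    have h1 : ∀ a : ZMod p, (∑ b : ZMod p, (c a • ρ (z ^ a.val)) * (c b • ρ (z ^ b.val))) =
        ∑ i : ZMod p, c i • ρ (z ^ i.val) := by
      intro a
      refine Fintype.sum_equiv (Equiv.addLeft a) _ _ fun b => ?_
      rw [Equiv.coe_addLeft, smul_mul_smul_comm, ← map_mul ρ, ← pow_val_add hz]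
      congr 1
      simp only [c]
      rw [← map_mul, ← AddChar.map_add_eq_mul, mul_add]
    rw [hQ, smul_mul_smul_comm, Finset.sum_mul_sum, Finset.sum_congr rfl fun a _ => h1 a,
      Finset.sum_const, Finset.card_univ, ZMod.card, ← Nat.cast_smul_eq_nsmul ℂ, smul_smul,
      mul_assoc, inv_mul_cancel₀ hp0, mul_one]
  have hQ0 : Q = 0 := by
    have hproj : LinearMap.IsProj (LinearMap.range Q) Q :=
      ⟨fun x => LinearMap.mem_range_self Q x, fun x hx => by
        obtain ⟨y, rfl⟩ := hx
        exact LinearMap.congr_fun hQQ y⟩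
    have h1 := hproj.trace
    have h2 : LinearMap.trace ℂ (Fin n → ℂ) Q = 0 := by
      have h3 := htr 1
      rw [map_one, mul_one] at h3
      rw [h3]
      simp only [mul_one, c, h0, mul_zero]
    rw [h2, eq_comm, Nat.cast_eq_zero, Submodule.finrank_eq_zero] at h1
    exact LinearMap.range_eq_bot.1 h1
  have h4 := htr v
  rw [hQ0, zero_mul, map_zero, eq_comm, mul_eq_zero] at h4
  have h5 := h4.resolve_left (inv_ne_zero hp0)
  rw [← Finset.add_sum_erase _ _ (Finset.mem_univ (0 : ZMod p)), Finset.sum_congr rfl fun i hi => by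
    rw [hv i (Finset.ne_of_mem_erase hi)]] at h5
  rw [← Finset.add_sum_erase _ _ (Finset.mem_univ (0 : ZMod p))] at h0
  simp only [c, ZMod.val_zero, pow_zero, one_mul, mul_zero, AddChar.map_zero_eq_one, map_one,
    mul_one] at h5 h0
  linear_combination h5 - h0

theorem faithful [IsSimpleGroup G] {θ : Cfsg.IrrCharacter G} (hθ : θ ≠ H26.oneIrr G) {v : G}
    (hv : θ.1 v = θ.1 1) : v = 1 := by
  classical
  obtain ⟨n, ρ, hirr, hρ⟩ := θ.2
  have h1 : ρ v = LinearMap.id := by
    refine (H25.char_eq_degree_iff ρ v).1 ?_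
    rw [congrFun hρ v, hv, ← congrFun hρ 1, ρ.char_one]
  rcases (MonoidHom.normal_ker ρ).eq_bot_or_eq_top with h | h
  · have : v ∈ ρ.ker := MonoidHom.mem_ker.2 h1
    rwa [h, Subgroup.mem_bot] at this
  exfalso
  have hall : ∀ g : G, θ.1 g = θ.1 1 := fun g => by
    have hg : ρ g = 1 := MonoidHom.mem_ker.1 (h ▸ Subgroup.mem_top g)
    rw [← congrFun hρ g, ← congrFun hρ 1]
    simp [Representation.character, hg]
  have hn := H26.classInner_irr θ (H26.oneIrr G)
  rw [if_neg hθ, Cfsg.classInner] at hn
  simp only [H26.oneIrr_val, map_one, mul_one, hall, Finset.sum_const, Finset.card_univ,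
    nsmul_eq_mul, Nat.card_eq_fintype_card] at hn
  rw [inv_mul_cancel_left₀ (Nat.cast_ne_zero.2 Fintype.card_ne_zero)] at hn
  exact H26.irr_one_ne_zero θ hn

theorem perfect_of_simple {G : Type*} [Group G] [IsSimpleGroup G] (hG : ¬ IsCyclic G) :
    commutator G = ⊤ := by
  rcases (inferInstance : (commutator G).Normal).eq_bot_or_eq_top with h | h
  · refine absurd ?_ hG
    let _ : CommGroup G :=
      { (inferInstance : Group G) with
        mul_comm := fun a b => by
          have h1 : ⁅a, b⁆ ∈ commutator G :=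
            Subgroup.commutator_mem_commutator (Subgroup.mem_top a) (Subgroup.mem_top b)
          rw [h, Subgroup.mem_bot, commutatorElement_eq_one_iff_mul_comm] at h1
          exact h1 }
    exact IsSimpleGroup.isCyclic
  · exact h

/-- A group whose order is less than `p ^ 3`, with self-centralising Sylow subgroup after all. -/
theorem conditions [IsSimpleGroup G] (hG : ¬ IsCyclic G) (hdvd : p ∣ Nat.card G)
    (hbig : Nat.card G < p ^ 3) :
    ∃ z : G, orderOf z = p ∧ Subgroup.centralizer ({z} : Set G) = Subgroup.zpowers z ∧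
      2 * Nat.card (Sylow p G) < (p + 1) * (p + 2) := by
  classical
  have hperf := perfect_of_simple hG
  have hp2 := hp.out.two_le
  have hGnc : ∀ a : G, Subgroup.zpowers a ≠ ⊤ := fun a h => hG ⟨⟨a, fun g => by
    show g ∈ Subgroup.zpowers a
    rw [h]; exact Subgroup.mem_top g⟩⟩
  -- `p ^ 2` does not divide the order
  have hsq : ¬ p ^ 2 ∣ Nat.card G := by
    intro hd
    let P : Sylow p G := default
    have hPd : p ^ 2 ∣ Nat.card (P : Subgroup G) := by
      obtain ⟨Q, hQ⟩ := Sylow.exists_subgroup_card_pow_prime p hd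
      obtain ⟨R, hR⟩ := (IsPGroup.of_card hQ).exists_le_sylow
      rw [P.card_eq_multiplicity, ← R.card_eq_multiplicity, ← hQ]
      exact Subgroup.card_dvd_of_le hR
    have hidx : (P : Subgroup G).index < p := by
      have h := Subgroup.card_mul_index (P : Subgroup G)
      have h2 := Nat.le_of_dvd Nat.card_pos hPd
      have h3 : p ^ 2 * (P : Subgroup G).index ≤
          Nat.card (P : Subgroup G) * (P : Subgroup G).index := Nat.mul_le_mul_right _ h2
      by_contra hle
      have h4 : p ^ 2 * p ≤ p ^ 2 * (P : Subgroup G).index :=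
        Nat.mul_le_mul_left _ (not_lt.1 hle)
      rw [show p ^ 2 * p = p ^ 3 by ring] at h4
      omega
    have hle : Nat.card (Sylow p G) ≤ (P : Subgroup G).index :=
      Nat.le_of_dvd (Nat.pos_of_ne_zero Subgroup.index_ne_zero_of_finite) P.card_dvd_index
    have hmod := card_sylow_modEq_one p G
    rw [Nat.ModEq, Nat.mod_eq_of_lt (by omega), Nat.one_mod_eq_one.2 hp.out.ne_one] at hmod
    have : Subsingleton (Sylow p G) := (Nat.card_eq_one_iff_unique.1 hmod).1
    have hN : (P : Subgroup G).Normal := by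
      rw [← Subgroup.normalizer_eq_top_iff, eq_top_iff]
      intro g _
      exact Sylow.smul_eq_iff_mem_normalizer.1 (Subsingleton.elim _ _)
    rcases hN.eq_bot_or_eq_top with h | h
    · rw [h, Subgroup.card_bot] at hPd
      have := Nat.le_of_dvd one_pos hPd
      nlinarith
    · have hpG : IsPGroup p G := fun g => by
        obtain ⟨k, hk⟩ := P.isPGroup' (⟨g, h ▸ Subgroup.mem_top g⟩ : (P : Subgroup G))
        exact ⟨k, by simpa using congrArg Subtype.val hk⟩
      have := hpG.center_nontrivial
      rcases (inferInstance : (Subgroup.center G).Normal).eq_bot_or_eq_top with h' | h'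
      · exact (Subgroup.nontrivial_iff_ne_bot _).1 this h'
      · have hle : commutator G ≤ ⊥ := by
          rw [commutator_def, Subgroup.commutator_le]
          intro a _ b _
          rw [Subgroup.mem_bot, commutatorElement_eq_one_iff_mul_comm]
          exact (Subgroup.mem_center_iff.1 (h' ▸ Subgroup.mem_top b) a)
        rw [hperf] at hle
        exact bot_ne_top.symm (le_bot_iff.1 hle)
  obtain ⟨z, hz⟩ := exists_prime_orderOf_dvd_card' p hdvd
  obtain ⟨V, H, S⟩ := exists_parts hz hsq
  obtain ⟨n, hcard⟩ : ∃ n, Nat.card (Sylow p G) = n * p + 1 := by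
    refine ⟨Nat.card (Sylow p G) / p, ?_⟩
    have hm := card_sylow_modEq_one p G
    rw [Nat.ModEq, Nat.one_mod_eq_one.2 hp.out.ne_one] at hm
    have := Nat.div_add_mod (Nat.card (Sylow p G)) p
    rw [hm, mul_comm] at this
    exact this.symm
  have hne : z ≠ 1 := fun h => by
    rw [h, orderOf_one] at hz
    exact hp.out.ne_one hz.symm
  have hn1 : 1 ≤ n := by
    by_contra hlt
    rw [show n = 0 by omega, zero_mul, zero_add, card_sylow_index S, Subgroup.index_eq_one,
      Subgroup.normalizer_eq_top_iff] at hcard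
    rcases hcard.eq_bot_or_eq_top with h | h
    · exact hne (Subgroup.zpowers_eq_bot.1 h)
    · exact hGnc z h
  set e := (H30.conjExps p z).card with he
  set c := Nat.card V with hc
  have hc0 : 1 ≤ c := Nat.card_pos
  have hGcard := card_group S hcard
  have he0 : 1 ≤ e := S.card_exp_pos
  have hcen : c * e * n < p := by
    rw [hGcard, ← he] at hbig
    by_contra hle
    have h1 : p * (p * p) ≤ p * (c * e * n * p) :=
      Nat.mul_le_mul_left _ (Nat.mul_le_mul_right _ (not_lt.1 hle))
    nlinarith [Nat.mul_pos (Nat.mul_pos hp.out.pos hc0) he0]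
  have he2 : 2 ≤ e := by
    by_contra hlt
    have he1 : e = 1 := by omega
    have h1 : IsPGroup p (Subgroup.zpowers z) := IsPGroup.of_card (n := 1) (by
      rw [Nat.card_zpowers, hz, pow_one])
    obtain ⟨P, hP⟩ := h1.exists_le_sylow
    have hPeq : Subgroup.zpowers z = (P : Subgroup G) := by
      refine Subgroup.eq_of_le_of_card_ge hP ?_
      obtain ⟨k, hk⟩ := P.isPGroup'.exists_card_eq
      rw [Nat.card_zpowers, hz, hk]
      have hk1 : k ≤ 1 := by
        by_contra hlt'
        exact hsq ((pow_dvd_pow p (not_le.1 hlt')).trans (hk ▸ Subgroup.card_subgroup_dvd_card _))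
      calc p ^ k ≤ p ^ 1 := Nat.pow_le_pow_right hp.out.pos hk1
        _ = p := pow_one p
    have hNC : Subgroup.normalizer (P : Set G) ≤ Subgroup.centralizer (P : Set G) := by
      intro g hg y hy
      have hg' : g ∈ Subgroup.normalizer ((Subgroup.zpowers z : Subgroup G) : Set G) := by
        rw [hPeq]; exact hg
      obtain ⟨a, ha⟩ := S.exists_autExp hg'
      have hmem : a ∈ H30.conjExps p z := S.mem_conjExps.2 ⟨g, ha⟩
      have ha1 : a = 1 :=
        Finset.card_le_one.1 (he1 ▸ le_refl e : (H30.conjExps p z).card ≤ 1) a hmem 1 S.one_mem_conjExps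
      rw [ha1, ZMod.val_one, pow_one, mul_inv_eq_iff_eq_mul] at ha
      have hy' : y ∈ Subgroup.zpowers z := by rw [hPeq]; exact hy
      obtain ⟨s, rfl⟩ := hy'
      exact ((Commute.zpow_right (show Commute g z from ha) s).eq).symm
    have hcompl := MonoidHom.ker_transferSylow_isComplement' P hNC
    rcases (MonoidHom.normal_ker (MonoidHom.transferSylow P hNC)).eq_bot_or_eq_top with h | h
    · rw [h] at hcompl
      have := Subgroup.isComplement'_bot_left.1 hcompl
      exact hGnc z (hPeq.trans this)
    · rw [h] at hcompl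
      have := Subgroup.isComplement'_top_left.1 hcompl
      rw [← hPeq] at this
      exact hne (Subgroup.zpowers_eq_bot.1 this)
  have hcp : c < p := by
    have : c * (1 * 1) ≤ c * (e * n) := Nat.mul_le_mul_left c (Nat.mul_le_mul he0 hn1)
    rw [mul_assoc] at hcen
    omega
  have h2n : 2 * n < p := by
    have : 1 * 2 * n ≤ c * e * n := Nat.mul_le_mul_right n (Nat.mul_le_mul hc0 he2)
    omega
  obtain ⟨B⟩ := S.nonempty_blockData
  have hbig' : p * c < B.t * (e * (n * p + 1)) := by
    rw [← mul_assoc, mul_comm B.t, B.et]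
    have h1 : (p - 1) * (1 * p + 1) ≤ (p - 1) * (n * p + 1) :=
      Nat.mul_le_mul_left _ (Nat.add_le_add_right (Nat.mul_le_mul_right p hn1) 1)
    have h2 : p * c ≤ p * (p - 1) := Nat.mul_le_mul_left _ (by omega)
    have h3 : (p - 1) * (1 * p + 1) = p * (p - 1) + (p - 1) := by ring
    omega
  have Sh := shape S B hperf hn1 (by omega) hcard hbig'
  obtain ⟨θ, hθ⟩ : ∃ θ, θ ∈ B.K := Finset.card_pos.1 (by
    rw [B.cardK]
    exact Nat.pos_of_ne_zero fun h => by
      rw [h, zero_mul] at hbig'
      omega)
  have het : e * B.t + 1 = p := by have h := B.et; rw [← he] at h; omega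
  have hV : ∀ v ∈ V, v = 1 := by
    intro v hv
    by_contra hv1
    have hc2 : 2 ≤ c := by
      by_contra hlt
      have hbot : V = ⊥ := Subgroup.eq_bot_of_card_le V (by omega)
      rw [hbot, Subgroup.mem_bot] at hv
      exact hv1 hv
    have hθ1 : θ ≠ H26.oneIrr G := fun h => B.one_not (h ▸ hθ)
    -- an eigenvalue missing from the exceptional character
    obtain ⟨k, hk⟩ : ∃ k : ZMod p,
        ∑ i : ZMod p, θ.1 (z ^ i.val) * conj (ZMod.stdAddChar (k * i)) = 0 := by
      have hval : ∀ k : ZMod p, ∑ i : ZMod p, θ.1 (z ^ i.val) * conj (ZMod.stdAddChar (k * i)) =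
          (B.D : ℂ) + (B.ε : ℂ) * ((if k ∈ fib B.κ θ then (p : ℂ) else 0) - e) := by
        intro k
        have hterm : ∀ i : ZMod p, θ.1 (z ^ i.val) * conj (ZMod.stdAddChar (k * i)) =
            (B.ε : ℂ) * ∑ j ∈ fib B.κ θ, (ZMod.stdAddChar (j * i) : ℂ) *
              conj (ZMod.stdAddChar (k * i)) +
            if i = 0 then (B.D : ℂ) - (B.ε : ℂ) * e else 0 := by
          intro i
          split_ifs with hi
          · subst hi
            simp only [ZMod.val_zero, pow_zero, mul_zero, AddChar.map_zero_eq_one, map_one, mul_one,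
              Finset.sum_const, nsmul_eq_mul]
            rw [B.fiber θ hθ, (irr_degree θ).1, B.degK θ hθ, ← he]
            ring
          · have h := B.valK θ hθ i hi 1
            rw [Subgroup.coe_one, mul_one] at h
            rw [h, add_zero, ← Finset.sum_mul]
            ring
        rw [Finset.sum_congr rfl fun i _ => hterm i, Finset.sum_add_distrib, ← Finset.mul_sum,
          Finset.sum_comm, Finset.sum_ite_eq', if_pos (Finset.mem_univ _)]
        simp only [sum_std_conj, Finset.sum_ite_eq']
        ring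
      rcases Sh.cases with ⟨hε, hD, -⟩ | ⟨hε, hD, a, q, hq, -⟩
      · refine ⟨0, ?_⟩
        rw [hval, if_neg fun h => (mem_fib.1 h).1 rfl, hε, hD, ← he]
        push_cast
        ring
      · have hq1 : q = 1 := by
          have h1 : 2 * e * n ≤ c * e * n :=
            Nat.mul_le_mul_right n (Nat.mul_le_mul_right e hc2)
          have h2 : 2 * n ≤ B.t := by
            by_contra hlt
            have h3 : e * (B.t + 1) ≤ e * (2 * n) := Nat.mul_le_mul_left e (by omega)
            nlinarith
          rcases Nat.lt_or_ge q 2 with h3 | h3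
          · rcases Nat.eq_zero_or_pos q with h4 | h4
            · rw [h4, zero_mul] at hq; omega
            · omega
          · have := Nat.mul_le_mul_right B.t h3
            omega
        obtain ⟨j, hj⟩ := Finset.card_pos.1 (show 0 < (fib B.κ θ).card by
          rw [B.fiber θ hθ]; exact he0)
        refine ⟨j, ?_⟩
        rw [hval, if_pos hj, hε]
        rw [hq1, one_mul] at hq
        have hDp : B.D + e = p := by
          refine Nat.eq_of_mul_eq_mul_left (show 0 < B.t by omega) ?_
          rw [mul_add, hD, mul_comm B.t e]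
          linear_combination het + p * hq.symm
        have hDp' : (B.D : ℂ) + e = p := by exact_mod_cast hDp
        push_cast
        linear_combination hDp'
    have h := char_eq_of_eigen_zero θ hz k hk (v := v) fun i hi => by
      rw [B.valK θ hθ i hi ⟨v, hv⟩]
      have h := B.valK θ hθ i hi 1
      rw [Subgroup.coe_one, mul_one] at h
      exact h.symm
    exact hv1 (faithful hθ1 h)
  refine ⟨z, hz, le_antisymm (fun x hx => ?_) (Subgroup.zpowers_le.2
    (Subgroup.mem_centralizer_singleton_iff.2 rfl)), ?_⟩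
  · obtain ⟨i, v, hv, rfl⟩ := S.cover x hx
    rw [hV v hv, mul_one]
    exact Subgroup.pow_mem _ (Subgroup.mem_zpowers z) _
  · rw [hcard]
    have : 2 * n * p ≤ p * p := Nat.mul_le_mul_right p h2n.le
    nlinarith

end Cfsg.Agent.H31.FewSylow
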