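import Mathlib
import Cfsg.Agent.H31.FewSylow.SmallOrder
import Cfsg.Agent.H1.Orders

/-!
Perfect groups with a prime divisor `p` and order less than `p ^ 3`.
-/

set_option autoImplicit false
set_option linter.unusedSectionVars false

namespace Cfsg.Agent.H31.FewSylow

open Cfsg.Agent.H31.Defect
open scoped ComplexConjugate commutatorElement

universe v

variable {G : Type v} [Group G] [Fintype G] {p : ℕ} [hp : Fact p.Prime]

theorem subsingleton_of_index_lt (P : Sylow p G) (h : (P : Subgroup G).index < p) :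
    Subsingleton (Sylow p G) := by
  have hle : Nat.card (Sylow p G) ≤ (P : Subgroup G).index :=
    Nat.le_of_dvd (Nat.pos_of_ne_zero Subgroup.index_ne_zero_of_finite) P.card_dvd_index
  have hmod := card_sylow_modEq_one p G
  rw [Nat.ModEq, Nat.mod_eq_of_lt (by omega), Nat.one_mod_eq_one.2 hp.out.ne_one] at hmod
  exact (Nat.card_eq_one_iff_unique.1 hmod).1

theorem normal_of_subsingleton (P : Sylow p G) [Subsingleton (Sylow p G)] :
    (P : Subgroup G).Normal := by
  rw [← Subgroup.normalizer_eq_top_iff, eq_top_iff]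
  intro g _
  exact Sylow.smul_eq_iff_mem_normalizer.1 (Subsingleton.elim _ _)

theorem not_sq_dvd_of_small (hbig : Nat.card G < p ^ 3) (P : Sylow p G)
    (hP : ¬ (P : Subgroup G).Normal) : ¬ p ^ 2 ∣ Nat.card G := by
  intro hd
  have hPd : p ^ 2 ∣ Nat.card (P : Subgroup G) := by
    obtain ⟨Q, hQ⟩ := Sylow.exists_subgroup_card_pow_prime p hd
    obtain ⟨R, hR⟩ := (IsPGroup.of_card hQ).exists_le_sylow
    rw [P.card_eq_multiplicity, ← R.card_eq_multiplicity, ← hQ]
    exact Subgroup.card_dvd_of_le hR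
  have hidx : (P : Subgroup G).index < p := by
    have h := Subgroup.card_mul_index (P : Subgroup G)
    have h2 := Nat.le_of_dvd Nat.card_pos hPd
    have h3 : p ^ 2 * (P : Subgroup G).index ≤
        Nat.card (P : Subgroup G) * (P : Subgroup G).index := Nat.mul_le_mul_right _ h2
    by_contra hle
    have h4 : p ^ 2 * p ≤ p ^ 2 * (P : Subgroup G).index :=
      Nat.mul_le_mul_left _ (not_lt.1 hle)
    rw [show p ^ 2 * p = p ^ 3 by ring] at h4
    omega
  have := subsingleton_of_index_lt P hidx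
  exact hP (normal_of_subsingleton P)

theorem sylow_eq_zpowers (hsq : ¬ p ^ 2 ∣ Nat.card G) {z : G} (hz : orderOf z = p) :
    ∃ P : Sylow p G, (P : Subgroup G) = Subgroup.zpowers z := by
  have h1 : IsPGroup p (Subgroup.zpowers z) := IsPGroup.of_card (n := 1) (by
    rw [Nat.card_zpowers, hz, pow_one])
  obtain ⟨P, hP⟩ := h1.exists_le_sylow
  refine ⟨P, (Subgroup.eq_of_le_of_card_ge hP ?_).symm⟩
  obtain ⟨k, hk⟩ := P.isPGroup'.exists_card_eq
  rw [Nat.card_zpowers, hz, hk]
  have hk1 : k ≤ 1 := by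
    by_contra hlt
    exact hsq ((pow_dvd_pow p (not_le.1 hlt)).trans (hk ▸ Subgroup.card_subgroup_dvd_card _))
  calc p ^ k ≤ p ^ 1 := Nat.pow_le_pow_right hp.out.pos hk1
    _ = p := pow_one p

/-- The number of Sylow subgroups is small and the centraliser is trivial modulo a normal
`p'`-subgroup. -/
theorem prepare (hperf : commutator G = ⊤) (hdvd : p ∣ Nat.card G) (hbig : Nat.card G < p ^ 3)
    (P₀ : Sylow p G) (hP₀ : ¬ (P₀ : Subgroup G).Normal) :
    ∃ (z : G) (M : Subgroup G), orderOf z = p ∧ M.Normal ∧ ¬ p ∣ Nat.card M ∧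
      ¬ p ^ 2 ∣ Nat.card G ∧
      Subgroup.centralizer ({z} : Set G) ≤ Subgroup.zpowers z ⊔ M ∧
      2 * Nat.card (Sylow p G) < (p + 1) * (p + 2) := by
  classical
  have hp2 := hp.out.two_le
  have hsq := not_sq_dvd_of_small hbig P₀ hP₀
  obtain ⟨z, hz⟩ := exists_prime_orderOf_dvd_card' p hdvd
  obtain ⟨V, H, S⟩ := exists_parts hz hsq
  obtain ⟨n, hcard⟩ : ∃ n, Nat.card (Sylow p G) = n * p + 1 := by
    refine ⟨Nat.card (Sylow p G) / p, ?_⟩
    have hm := card_sylow_modEq_one p G
    rw [Nat.ModEq, Nat.one_mod_eq_one.2 hp.out.ne_one] at hm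
    have := Nat.div_add_mod (Nat.card (Sylow p G)) p
    rw [hm, mul_comm] at this
    exact this.symm
  have hne : z ≠ 1 := fun h => by
    rw [h, orderOf_one] at hz
    exact hp.out.ne_one hz.symm
  have hn1 : 1 ≤ n := by
    by_contra hlt
    rw [show n = 0 by omega, zero_mul, zero_add] at hcard
    have : Subsingleton (Sylow p G) := (Nat.card_eq_one_iff_unique.1 hcard).1
    exact hP₀ (normal_of_subsingleton P₀)
  set e := (H30.conjExps p z).card with he
  set c := Nat.card V with hc
  have hc0 : 1 ≤ c := Nat.card_pos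
  have hGcard := card_group S hcard
  have he0 : 1 ≤ e := S.card_exp_pos
  have hcen : c * e * n < p := by
    rw [hGcard, ← he] at hbig
    by_contra hle
    have h1 : p * (p * p) ≤ p * (c * e * n * p) :=
      Nat.mul_le_mul_left _ (Nat.mul_le_mul_right _ (not_lt.1 hle))
    nlinarith [Nat.mul_pos (Nat.mul_pos hp.out.pos hc0) he0]
  have he2 : 2 ≤ e := by
    by_contra hlt
    have he1 : e = 1 := by omega
    obtain ⟨P, hPeq⟩ := sylow_eq_zpowers hsq hz
    have hNC : Subgroup.normalizer (P : Set G) ≤ Subgroup.centralizer (P : Set G) := by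
      intro g hg y hy
      have hg' : g ∈ Subgroup.normalizer ((Subgroup.zpowers z : Subgroup G) : Set G) := by
        rw [← hPeq]; exact hg
      obtain ⟨a, ha⟩ := S.exists_autExp hg'
      have hmem : a ∈ H30.conjExps p z := S.mem_conjExps.2 ⟨g, ha⟩
      have ha1 : a = 1 :=
        Finset.card_le_one.1 (he1 ▸ le_refl e : (H30.conjExps p z).card ≤ 1) a hmem 1 S.one_mem_conjExps
      rw [ha1, ZMod.val_one, pow_one, mul_inv_eq_iff_eq_mul] at ha
      have hy' : y ∈ Subgroup.zpowers z := by rw [← hPeq]; exact hy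
      obtain ⟨s, rfl⟩ := hy'
      exact ((Commute.zpow_right (show Commute g z from ha) s).eq).symm
    have hcompl := MonoidHom.ker_transferSylow_isComplement' P hNC
    set f := MonoidHom.transferSylow P hNC with hf
    have hker : (⊤ : Subgroup G) ≤ f.ker := by
      rw [← hperf, commutator_def, Subgroup.commutator_le]
      intro a _ b _
      rw [MonoidHom.mem_ker, map_commutatorElement, commutatorElement_eq_one_iff_mul_comm]
      have hPc : ∀ x y : (P : Subgroup G), x * y = y * x := fun x y =>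
        Subtype.ext (hNC (Subgroup.le_normalizer y.2) x x.2)
      exact hPc _ _
    rw [top_le_iff.1 hker] at hcompl
    have := Subgroup.isComplement'_top_left.1 hcompl
    rw [hPeq] at this
    exact hne (Subgroup.zpowers_eq_bot.1 this)
  have hcp : c < p := by
    have : c * (1 * 1) ≤ c * (e * n) := Nat.mul_le_mul_left c (Nat.mul_le_mul he0 hn1)
    rw [mul_assoc] at hcen
    omega
  have h2n : 2 * n < p := by
    have : 1 * 2 * n ≤ c * e * n := Nat.mul_le_mul_right n (Nat.mul_le_mul hc0 he2)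
    omega
  obtain ⟨B⟩ := S.nonempty_blockData
  have hbig' : p * c < B.t * (e * (n * p + 1)) := by
    rw [← mul_assoc, mul_comm B.t, B.et]
    have h1 : (p - 1) * (1 * p + 1) ≤ (p - 1) * (n * p + 1) :=
      Nat.mul_le_mul_left _ (Nat.add_le_add_right (Nat.mul_le_mul_right p hn1) 1)
    have h2 : p * c ≤ p * (p - 1) := Nat.mul_le_mul_left _ (by omega)
    have h3 : (p - 1) * (1 * p + 1) = p * (p - 1) + (p - 1) := by ring
    omega
  have Sh := shape S B hperf hn1 (by omega) hcard hbig'
  obtain ⟨θ, hθ⟩ : ∃ θ, θ ∈ B.K := Finset.card_pos.1 (by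
    rw [B.cardK]
    exact Nat.pos_of_ne_zero fun h => by
      rw [h, zero_mul] at hbig'
      omega)
  have het : e * B.t + 1 = p := by have h := B.et; rw [← he] at h; omega
  have hV : ∀ v ∈ V, θ.1 v = θ.1 1 := by
    intro v hv
    by_cases hv1 : v = 1
    · rw [hv1]
    have hc2 : 2 ≤ c := by
      by_contra hlt
      have hbot : V = ⊥ := Subgroup.eq_bot_of_card_le V (by omega)
      rw [hbot, Subgroup.mem_bot] at hv
      exact hv1 hv
    obtain ⟨k, hk⟩ : ∃ k : ZMod p,
        ∑ i : ZMod p, θ.1 (z ^ i.val) * conj (ZMod.stdAddChar (k * i)) = 0 := by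
      have hval : ∀ k : ZMod p, ∑ i : ZMod p, θ.1 (z ^ i.val) * conj (ZMod.stdAddChar (k * i)) =
          (B.D : ℂ) + (B.ε : ℂ) * ((if k ∈ fib B.κ θ then (p : ℂ) else 0) - e) := by
        intro k
        have hterm : ∀ i : ZMod p, θ.1 (z ^ i.val) * conj (ZMod.stdAddChar (k * i)) =
            (B.ε : ℂ) * ∑ j ∈ fib B.κ θ, (ZMod.stdAddChar (j * i) : ℂ) *
              conj (ZMod.stdAddChar (k * i)) +
            if i = 0 then (B.D : ℂ) - (B.ε : ℂ) * e else 0 := by
          intro i
          split_ifs with hi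
          · subst hi
            simp only [ZMod.val_zero, pow_zero, mul_zero, AddChar.map_zero_eq_one, map_one, mul_one,
              Finset.sum_const, nsmul_eq_mul]
            rw [B.fiber θ hθ, (irr_degree θ).1, B.degK θ hθ, ← he]
            ring
          · have h := B.valK θ hθ i hi 1
            rw [Subgroup.coe_one, mul_one] at h
            rw [h, add_zero, ← Finset.sum_mul]
            ring
        rw [Finset.sum_congr rfl fun i _ => hterm i, Finset.sum_add_distrib, ← Finset.mul_sum,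
          Finset.sum_comm, Finset.sum_ite_eq', if_pos (Finset.mem_univ _)]
        simp only [sum_std_conj, Finset.sum_ite_eq']
        ring
      rcases Sh.cases with ⟨hε, hD, -⟩ | ⟨hε, hD, a, q, hq, -⟩
      · refine ⟨0, ?_⟩
        rw [hval, if_neg fun h => (mem_fib.1 h).1 rfl, hε, hD, ← he]
        push_cast
        ring
      · have hq1 : q = 1 := by
          have h1 : 2 * e * n ≤ c * e * n :=
            Nat.mul_le_mul_right n (Nat.mul_le_mul_right e hc2)
          have h2 : 2 * n ≤ B.t := by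
            by_contra hlt
            have h3 : e * (B.t + 1) ≤ e * (2 * n) := Nat.mul_le_mul_left e (by omega)
            nlinarith
          rcases Nat.lt_or_ge q 2 with h3 | h3
          · rcases Nat.eq_zero_or_pos q with h4 | h4
            · rw [h4, zero_mul] at hq; omega
            · omega
          · have := Nat.mul_le_mul_right B.t h3
            omega
        obtain ⟨j, hj⟩ := Finset.card_pos.1 (show 0 < (fib B.κ θ).card by
          rw [B.fiber θ hθ]; exact he0)
        refine ⟨j, ?_⟩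
        rw [hval, if_pos hj, hε]
        rw [hq1, one_mul] at hq
        have hDp : B.D + e = p := by
          refine Nat.eq_of_mul_eq_mul_left (show 0 < B.t by omega) ?_
          rw [mul_add, hD, mul_comm B.t e]
          linear_combination het + p * hq.symm
        have hDp' : (B.D : ℂ) + e = p := by exact_mod_cast hDp
        push_cast
        linear_combination hDp'
    exact char_eq_of_eigen_zero θ hz k hk (v := v) fun i hi => by
      rw [B.valK θ hθ i hi ⟨v, hv⟩]
      have h := B.valK θ hθ i hi 1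
      rw [Subgroup.coe_one, mul_one] at h
      exact h.symm
  -- the kernel of the exceptional character
  obtain ⟨d, ρ, -, hρ⟩ := θ.2
  have hker : ∀ g : G, g ∈ ρ.ker ↔ θ.1 g = θ.1 1 := by
    intro g
    have hmk : g ∈ ρ.ker ↔ ρ g = LinearMap.id := MonoidHom.mem_ker
    rw [hmk, ← H25.char_eq_degree_iff ρ g, ← congrFun hρ g, ← congrFun hρ 1, ρ.char_one]
  have hpM : ¬ p ∣ Nat.card ρ.ker := by
    intro hd
    obtain ⟨y, hy⟩ := exists_prime_orderOf_dvd_card' p hd
    obtain ⟨P, hP⟩ := sylow_eq_zpowers hsq (show orderOf (y : G) = p by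
      rw [Subgroup.orderOf_coe]; exact hy)
    obtain ⟨Q, hQ⟩ := sylow_eq_zpowers hsq hz
    obtain ⟨g, hg⟩ := MulAction.exists_smul_eq G P Q
    have h2 : z ∈ ((g • P : Sylow p G) : Subgroup G) := by
      rw [hg, hQ]; exact Subgroup.mem_zpowers z
    rw [Sylow.coe_subgroup_smul, hP] at h2
    obtain ⟨b, hb, hbz⟩ := h2
    have hzM : z ∈ ρ.ker := hbz ▸ (MonoidHom.normal_ker ρ).conj_mem b
      (Subgroup.zpowers_le.2 y.2 hb) g
    have hall : ∀ i ∈ Finset.univ.erase (0 : ZMod p), θ.1 (z ^ i.val) = (B.D : ℂ) := fun i _ => by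
      rw [(hker _).1 (Subgroup.pow_mem _ hzM _), (irr_degree θ).1, B.degK θ hθ]
    have hsum : ∑ i ∈ Finset.univ.erase (0 : ZMod p), θ.1 (z ^ i.val) = -((B.ε : ℂ) * e) := by
      rw [Finset.sum_congr rfl fun i hi => (by
        have h := B.valK θ hθ i (Finset.ne_of_mem_erase hi) 1
        rwa [Subgroup.coe_one, mul_one] at h :
          θ.1 (z ^ i.val) = (B.ε : ℂ) * ∑ k ∈ fib B.κ θ, ZMod.stdAddChar (k * i)),
        ← Finset.mul_sum, Finset.sum_comm, Finset.sum_congr rfl fun k hk => (by
          simp only [mul_comm k]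
          exact sum_std_ne_zero (mem_fib.1 hk).1 :
            ∑ i ∈ Finset.univ.erase (0 : ZMod p), (ZMod.stdAddChar (k * i) : ℂ) = -1),
        Finset.sum_const, B.fiber θ hθ, ← he, nsmul_eq_mul]
      ring
    rw [Finset.sum_congr rfl hall, Finset.sum_const, Finset.card_erase_of_mem (Finset.mem_univ _),
      Finset.card_univ, ZMod.card, nsmul_eq_mul] at hsum
    have hint : ((p - 1 : ℕ) : ℤ) * B.D = -(B.ε * e) := by exact_mod_cast hsum
    have hD1 : B.D ≠ 1 := fun h => B.one_not (eq_one_of_linear hperf ((B.degK θ hθ).trans h) ▸ hθ)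
    have hD2 : 2 ≤ B.D := by have := B.D_pos; omega
    have hle : (p - 1) * 2 ≤ (p - 1) * B.D := Nat.mul_le_mul_left _ hD2
    have het' : e * 1 ≤ e * B.t := Nat.mul_le_mul_left e (Nat.pos_of_ne_zero fun h => by
      rw [h, mul_zero] at het; omega)
    rcases B.eps with hε | hε <;> rw [hε] at hint
    · omega
    · have : (p - 1) * B.D = e := by exact_mod_cast (by rw [hint]; ring :
        ((p - 1 : ℕ) : ℤ) * B.D = (e : ℤ))
      omega
  refine ⟨z, ρ.ker, hz, MonoidHom.normal_ker ρ, hpM, hsq, fun x hx => ?_, ?_⟩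
  · obtain ⟨i, v, hv, rfl⟩ := S.cover x hx
    exact Subgroup.mul_mem _ (Subgroup.mem_sup_left (Subgroup.pow_mem _ (Subgroup.mem_zpowers z) _))
      (Subgroup.mem_sup_right ((hker v).2 (hV v hv)))
  · rw [hcard]
    have : 2 * n * p ≤ p * p := Nat.mul_le_mul_right p h2n.le
    nlinarith

/-- Recognition of the quotient by a normal `p'`-subgroup. -/
theorem conclusion_mod (hperf : commutator G = ⊤) {z : G} {M : Subgroup G} [M.Normal]
    (hz : orderOf z = p) (hpM : ¬ p ∣ Nat.card M) (hsq : ¬ p ^ 2 ∣ Nat.card G)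
    (hC : Subgroup.centralizer ({z} : Set G) ≤ Subgroup.zpowers z ⊔ M)
    (hn : 2 * Nat.card (Sylow p G) < (p + 1) * (p + 2)) :
    (∃ (F : Type) (_ : Field F) (_ : Fintype F), Fintype.card F = p ∧ 3 < p ∧
      Nonempty (G ⧸ M ≃* Matrix.ProjectiveSpecialLinearGroup (Fin 2) F)) ∨
    (∃ (m : ℕ) (F : Type) (_ : Field F) (_ : Fintype F), Fintype.card F = 2 ^ m ∧ p = 2 ^ m + 1 ∧
      3 < p ∧ Nonempty (G ⧸ M ≃* Matrix.ProjectiveSpecialLinearGroup (Fin 2) F)) := by
  classical
  set π := QuotientGroup.mk' M with hπ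
  have hsurj : Function.Surjective π := QuotientGroup.mk'_surjective M
  have hmemM : ∀ x : G, π x = 1 ↔ x ∈ M := QuotientGroup.eq_one_iff
  have hzM : z ∉ M := fun h => hpM (by
    have := orderOf_dvd_natCard (⟨z, h⟩ : M)
    rwa [Subgroup.orderOf_mk, hz] at this)
  have hz' : orderOf (π z) = p := by
    have h1 : orderOf (π z) ∣ p := hz ▸ orderOf_map_dvd π z
    exact ((Nat.dvd_prime hp.out).1 h1).resolve_left fun h =>
      hzM ((hmemM z).1 (orderOf_eq_one_iff.1 h))
  have hperf' : commutator (G ⧸ M) = ⊤ := by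
    rw [commutator_def, ← MonoidHom.range_eq_top.2 hsurj, MonoidHom.range_eq_map,
      ← Subgroup.map_commutator, ← commutator_def, hperf]
  have hcap : ∀ x ∈ Subgroup.zpowers z, x ∈ M → x = 1 := by
    intro x hx hxM
    have ho := orderOf_dvd_natCard (⟨x, hx⟩ : Subgroup.zpowers z)
    rw [Nat.card_zpowers, hz, Subgroup.orderOf_mk] at ho
    rcases (Nat.dvd_prime hp.out).1 ho with h' | h'
    · exact orderOf_eq_one_iff.1 h'
    · refine absurd ?_ hpM
      have := orderOf_dvd_natCard (⟨x, hxM⟩ : M)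
      rwa [Subgroup.orderOf_mk, h'] at this
  have hC' : Subgroup.centralizer ({π z} : Set (G ⧸ M)) = Subgroup.zpowers (π z) := by
    refine le_antisymm (fun y hy => ?_) (Subgroup.zpowers_le.2
      (Subgroup.mem_centralizer_singleton_iff.2 rfl))
    obtain ⟨x, rfl⟩ := hsurj y
    -- the conjugate of `z` and `z` generate Sylow subgroups of `⟨z⟩ M`
    set Q : Subgroup G := Subgroup.zpowers z ⊔ M with hQ
    have hxz : x * z * x⁻¹ ∈ Q := by
      have h1 : x * z * x⁻¹ * z⁻¹ ∈ M := by
        rw [← hmemM]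
        simp only [map_mul, map_inv]
        rw [Subgroup.mem_centralizer_singleton_iff.1 hy]
        group
      rw [show x * z * x⁻¹ = x * z * x⁻¹ * z⁻¹ * z by group]
      exact Subgroup.mul_mem _ (Subgroup.mem_sup_right h1)
        (Subgroup.mem_sup_left (Subgroup.mem_zpowers z))
    have hzQ : z ∈ Q := Subgroup.mem_sup_left (Subgroup.mem_zpowers z)
    have hsQ : ¬ p ^ 2 ∣ Nat.card Q := fun h => hsq (h.trans (Subgroup.card_subgroup_dvd_card Q))
    obtain ⟨P, hP⟩ := sylow_eq_zpowers hsQ (z := (⟨z, hzQ⟩ : Q)) (by rw [Subgroup.orderOf_mk, hz])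
    obtain ⟨R, hR⟩ := sylow_eq_zpowers hsQ (z := (⟨_, hxz⟩ : Q)) (by
      rw [Subgroup.orderOf_mk]
      exact (orderOf_injective (MulAut.conj x).toMonoidHom (MulAut.conj x).injective z).trans hz)
    obtain ⟨q, hq⟩ := MulAction.exists_smul_eq Q P R
    have h2 : (⟨_, hxz⟩ : Q) ∈ ((q • P : Sylow p Q) : Subgroup Q) := by
      rw [hq, hR]; exact Subgroup.mem_zpowers _
    rw [Sylow.coe_subgroup_smul, hP] at h2
    obtain ⟨b, hb, hb'⟩ := h2
    obtain ⟨s, hs⟩ := (mem_powers_iff_mem_zpowers).2 hb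
    have h3 : (q : G) * z ^ s * (q : G)⁻¹ = x * z * x⁻¹ := by
      have h' := congrArg Subtype.val hb'
      rw [← hs] at h'
      simpa using h'
    -- the exponent is one
    have h4 : (q : G)⁻¹ * x * z * ((q : G)⁻¹ * x)⁻¹ = z ^ s := by
      rw [show (q : G)⁻¹ * x * z * ((q : G)⁻¹ * x)⁻¹ = (q : G)⁻¹ * (x * z * x⁻¹) * q by group, ← h3]
      group
    have hqimg : π (q : G) ∈ Subgroup.zpowers (π z) := by
      have h5 : (q : G) ∈ ((Subgroup.zpowers z ⊔ M : Subgroup G) : Set G) := q.2
      rw [Subgroup.mul_normal, Set.mem_mul] at h5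
      obtain ⟨a, ha, m, hm, hqm⟩ := h5
      obtain ⟨i, rfl⟩ := ha
      exact ⟨i, by
        show π z ^ i = π (q : G)
        rw [← hqm, map_mul, (hmemM m).2 hm, mul_one, map_zpow]⟩
    have hcomm : Commute (π (q : G)⁻¹ * π x) (π z) := by
      refine Commute.mul_left ?_ (Subgroup.mem_centralizer_singleton_iff.1 hy)
      rw [map_inv]
      obtain ⟨i, hi⟩ := hqimg
      rw [← show π z ^ i = π (q : G) from hi]
      exact ((Commute.refl (π z)).zpow_left i).inv_left
    have h6 : z ^ s = z := by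
      have h7 : π (z ^ s) = π z := by
        rw [← h4, map_mul, map_mul, map_inv, map_mul, hcomm.eq, mul_inv_cancel_right]
      have h8 : z ^ s * z⁻¹ ∈ M := by rw [← hmemM, map_mul, h7, map_inv, mul_inv_cancel]
      exact mul_inv_eq_one.1 (hcap _ (Subgroup.mul_mem _
        (Subgroup.pow_mem _ (Subgroup.mem_zpowers z) _)
        (Subgroup.inv_mem _ (Subgroup.mem_zpowers z))) h8)
    rw [h6, mul_inv_eq_iff_eq_mul] at h4
    have h9 : (q : G)⁻¹ * x ∈ Q := hC (Subgroup.mem_centralizer_singleton_iff.2 h4)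
    have hxQ : x ∈ ((Subgroup.zpowers z ⊔ M : Subgroup G) : Set G) := by
      have := Subgroup.mul_mem _ q.2 h9
      rwa [mul_inv_cancel_left] at this
    rw [Subgroup.mul_normal, Set.mem_mul] at hxQ
    obtain ⟨a, ⟨i, rfl⟩, m, hm, rfl⟩ := hxQ
    exact ⟨i, by
      show π z ^ i = π (z ^ i * m)
      rw [map_mul, (hmemM m).2 hm, mul_one, map_zpow]⟩
  have hn' : 2 * Nat.card (Sylow p (G ⧸ M)) < (p + 1) * (p + 2) := by
    obtain ⟨P, hP⟩ := sylow_eq_zpowers hsq hz
    have hsq' : ¬ p ^ 2 ∣ Nat.card (G ⧸ M) := fun h =>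
      hsq (h.trans (Subgroup.card_dvd_of_surjective π hsurj))
    obtain ⟨P', hP'⟩ := sylow_eq_zpowers hsq' hz'
    have hle : Nat.card (Sylow p (G ⧸ M)) ≤ Nat.card (Sylow p G) := by
      refine Nat.le_of_dvd Nat.card_pos ?_
      rw [P.card_eq_index_normalizer, P'.card_eq_index_normalizer]
      show (Subgroup.normalizer ((P' : Subgroup (G ⧸ M)) : Set (G ⧸ M))).index ∣
        (Subgroup.normalizer ((P : Subgroup G) : Set G)).index
      rw [hP, hP', ← MonoidHom.map_zpowers]
      exact (Subgroup.index_dvd_of_le (Subgroup.le_normalizer_map π)).trans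
        (Subgroup.index_map_dvd _ hsurj)
    omega
  exact conclusion hperf' p (π z) hz' hC' hn'

/-- The two families have at least half the order allowed. -/
theorem psl_bound {F : Type} [Field F] [Fintype F] {q : ℕ} (hF : Fintype.card F = q) :
    ∃ c, (c = 1 ∨ c = 2) ∧ Nat.gcd 2 (q - 1) = c ∧
      c * Nat.card (Matrix.ProjectiveSpecialLinearGroup (Fin 2) F) = q * (q ^ 2 - 1) := by
  have hq : 2 ≤ q := hF ▸ Fintype.one_lt_card
  refine ⟨Nat.gcd 2 (q - 1), ?_, rfl, ?_⟩
  · exact (Nat.dvd_prime Nat.prime_two).1 (Nat.gcd_dvd_left 2 (q - 1))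
  have h1 := H1.gcd_mul_card_PSL (ι := Fin 2) (F := F)
  rw [Fintype.card_fin, H1.natCard_units hF] at h1
  have h2 := H1.sub_one_mul_card_SL hF 2 (by decide)
  rw [Fin.prod_univ_two, Fin.val_zero, Fin.val_one, pow_zero, pow_one,
    show q ^ 2 - q = (q - 1) * q by rw [Nat.sub_mul, one_mul, pow_two],
    show (q ^ 2 - 1) * ((q - 1) * q) = (q - 1) * (q * (q ^ 2 - 1)) by ring, ← h1] at h2
  exact Nat.eq_of_mul_eq_mul_left (by omega) h2

end Cfsg.Agent.H31.FewSylow
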